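import Cfsg.Agent.Lib.SLMinDegree.RootValue
import Cfsg.Agent.Lib.Classical.Card

/-!
The smallest nontrivial irreducible degree of `SL(n, F)`.
-/

set_option autoImplicit false
set_option linter.unusedSectionVars false

namespace CfsgLib.SLMinDegree

open Matrix Cfsg CfsgLib.Char CfsgLib.SLBlocks
open scoped MatrixGroups

/-- A character without trivial constituents is built from nontrivial irreducibles. -/
theorem constituent_bound {G : Type*} [Group G] [Fintype G] {φ : G → ℂ} (hφ : IsCharacter G φ)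
    (h0 : classInner φ (fun _ => 1) = 0) {D : ℕ}
    (hD : ∀ ψ : G → ℂ, IsIrrCharacter G ψ → ψ ≠ (fun _ => 1) → ∀ d : ℕ, ψ 1 = d → D ≤ d)
    {b : ℕ} (hb : φ 1 = b) (hb0 : b ≠ 0) :
    D ≤ b ∧ (b < 2 * D → IsIrrCharacter G φ) := by
  classical
  obtain ⟨c, hc⟩ := exists_multiplicities hφ
  choose d hd using fun ψ : IrrCharacter G => exists_nat_degree (isCharacter_of_isIrr ψ.2)
  have htriv : c ⟨fun _ => 1, isIrrCharacter_one⟩ = 0 := by
    have h := classInner_sum_smul_irr (G := G) (fun ψ => (c ψ : ℂ)) ⟨fun _ => 1, isIrrCharacter_one⟩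
    rw [← hc, h0] at h
    exact_mod_cast h.symm
  have hge : ∀ ψ, c ψ * D ≤ c ψ * d ψ := fun ψ => by
    by_cases h : (ψ : G → ℂ) = fun _ => 1
    · rw [show ψ = ⟨fun _ => 1, isIrrCharacter_one⟩ from Subtype.ext h, htriv, zero_mul, zero_mul]
    · exact Nat.mul_le_mul_left _ (hD ψ ψ.2 h _ (hd ψ))
  have hbs : b = ∑ ψ, c ψ * d ψ := by
    apply Nat.cast_injective (R := ℂ)
    rw [← hb, hc]
    simp [hd]
  have hne : ∑ ψ, c ψ ≠ 0 := fun h => by
    apply hb0
    rw [hbs]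
    exact Finset.sum_eq_zero fun ψ hψ => by rw [Finset.sum_eq_zero_iff.mp h ψ hψ, zero_mul]
  have hle : (∑ ψ, c ψ) * D ≤ b := by
    rw [hbs, Finset.sum_mul]
    exact Finset.sum_le_sum fun ψ _ => hge ψ
  refine ⟨(Nat.le_mul_of_pos_left D (Nat.pos_of_ne_zero hne)).trans hle, fun hlt => ?_⟩
  have h1 : ∑ ψ, c ψ = 1 := by
    by_contra h
    have h2 : 2 * D ≤ (∑ ψ, c ψ) * D := Nat.mul_le_mul_right _ (by omega)
    omega
  obtain ⟨ψ₀, -, hψ₀⟩ := Finset.exists_ne_zero_of_sum_ne_zero hne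
  have hsplit := Finset.add_sum_erase Finset.univ c (Finset.mem_univ ψ₀)
  rw [h1] at hsplit
  have hrest : ∑ ψ ∈ Finset.univ.erase ψ₀, c ψ = 0 := by omega
  have hφeq : φ = (ψ₀ : G → ℂ) := by
    rw [hc, Finset.sum_eq_single ψ₀ (fun ψ _ hψ => by
      rw [Finset.sum_eq_zero_iff.mp hrest ψ (Finset.mem_erase.mpr ⟨hψ, Finset.mem_univ _⟩),
        Nat.cast_zero, zero_smul]) (fun h => absurd (Finset.mem_univ _) h)]
    rw [show c ψ₀ = 1 by omega, Nat.cast_one, one_smul]
  exact hφeq ▸ ψ₀.2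

variable {F : Type*} [Field F] [Fintype F] [DecidableEq F] {m : ℕ}

/-- The number of points of projective space. -/
def pts (q m : ℕ) : ℕ := ∑ i ∈ Finset.range m, q ^ i

theorem pts_succ (q m : ℕ) : pts q (m + 1) = q * pts q m + 1 := by
  rw [pts, pts, Finset.sum_range_succ', pow_zero, Finset.mul_sum]
  simp [pow_succ, mul_comm]

theorem sub_one_mul_pts {q : ℕ} (hq : 1 ≤ q) : ∀ m : ℕ, (q - 1) * pts q m = q ^ m - 1
  | 0 => by simp [pts]
  | m + 1 => by
    rw [pts_succ, mul_add, mul_one, mul_left_comm, sub_one_mul_pts hq m, pow_succ', Nat.mul_sub, mul_one]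
    have : q ≤ q * q ^ m := Nat.le_mul_of_pos_right _ (Nat.pow_pos (by omega))
    omega

theorem pow_add_pts {q : ℕ} (hq : 1 ≤ q) (m : ℕ) : q * pts q m = q ^ m - 1 + pts q m := by
  rw [← sub_one_mul_pts hq m, ← Nat.succ_mul, Nat.succ_eq_add_one, Nat.sub_add_cancel hq]

theorem index_PG (hm : 2 ≤ m) : (PG m F).index = Fintype.card F * pts (Fintype.card F) m + 1 := by
  have hq := Fintype.one_lt_card (α := F)
  have h := index_PG_mul (F := F) hm
  rw [← sub_one_mul_pts hq.le (m + 1), pts_succ] at h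
  exact Nat.eq_of_mul_eq_mul_left (by omega) h

/-- The fixed point character on `SL(m, F)`. -/
noncomputable def sigS (χ : SL(m + 1, F) → ℂ) (A : SL(m, F)) : ℂ :=
  sig χ (Matrix.SpecialLinearGroup.toGL A)

theorem isCharacter_sigS {χ : SL(m + 1, F) → ℂ} (hχ : IsCharacter SL(m + 1, F) χ) :
    IsCharacter SL(m, F) (sigS χ) :=
  isCharacter_comp Matrix.SpecialLinearGroup.toGL (isCharacter_sig hχ)

theorem sigS_one (χ : SL(m + 1, F) → ℂ) : sigS χ 1 = sig χ 1 := by rw [sigS, map_one]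

theorem weak (hm : 2 ≤ m) {χ : SL(m + 1, F) → ℂ} (hχ : IsIrrCharacter SL(m + 1, F) χ)
    (h1 : χ ≠ fun _ => 1) {k : ℕ} (hk : χ 1 = k) : Fintype.card F ^ m - 1 ≤ k := by
  obtain ⟨a, b, hab, ht, -, -⟩ := exists_ab (isCharacter_of_isIrr hχ) hm
  have hk' : k = a * (Fintype.card F ^ m - 1) + b := by exact_mod_cast hk.symm.trans hab
  rcases Nat.eq_zero_or_pos a with ha | ha
  · refine absurd (eq_one_of_chi_t1 hχ hm ?_) h1
    rw [ht, hk, hk', ha]
    simp
  · have : Fintype.card F ^ m - 1 ≤ a * (Fintype.card F ^ m - 1) := Nat.le_mul_of_pos_left _ ha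
    omega

theorem pow_sub_one_ge (hm : 2 ≤ m) : 3 ≤ Fintype.card F ^ m - 1 := by
  have h : 2 ^ 2 ≤ Fintype.card F ^ m :=
    (Nat.pow_le_pow_left Fintype.one_lt_card 2).trans (Nat.pow_le_pow_right Fintype.card_pos hm)
  omega

theorem reduce (hm : 2 ≤ m) {χ : SL(m + 1, F) → ℂ} (hχ : IsIrrCharacter SL(m + 1, F) χ)
    (h1 : χ ≠ fun _ => 1) {k : ℕ} (hk : χ 1 = k)
    (hlt : k < Fintype.card F * pts (Fintype.card F) m) :
    ∃ b : ℕ, k = Fintype.card F ^ m - 1 + b ∧ b < pts (Fintype.card F) m ∧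
      χ (t1 hm) = (b : ℂ) - 1 ∧ sig χ 1 = b ∧ (∀ y, y ≠ 0 → coef χ y 1 = 1) ∧
      classInner (sigS χ) (fun _ => 1) = 0 := by
  classical
  obtain ⟨a, b, hab, ht, hs, hco⟩ := exists_ab (isCharacter_of_isIrr hχ) hm
  have hk' : k = a * (Fintype.card F ^ m - 1) + b := by exact_mod_cast hk.symm.trans hab
  have hw := weak hm hχ h1 hk
  have hpow := pow_sub_one_ge (F := F) hm
  have hadd := pow_add_pts (q := Fintype.card F) Fintype.card_pos m
  have ha0 : a ≠ 0 := fun ha => h1 (eq_one_of_chi_t1 hχ hm (by rw [ht, hk, hk', ha]; simp))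
  have hpts : pts (Fintype.card F) m ≤ Fintype.card F ^ m - 1 := by
    rw [← sub_one_mul_pts Fintype.card_pos m]
    exact Nat.le_mul_of_pos_left _ (by have := Fintype.one_lt_card (α := F); omega)
  have ha : a = 1 := by
    by_contra h
    have : 2 * (Fintype.card F ^ m - 1) ≤ a * (Fintype.card F ^ m - 1) :=
      Nat.mul_le_mul_right _ (by omega)
    omega
  subst ha
  rw [one_mul] at hk'
  refine ⟨b, hk', by omega, by simpa using ht, hs, fun y hy => by simpa using hco y hy, ?_⟩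
  rw [classInner]
  simp only [map_one, mul_one]
  refine mul_eq_zero_of_right _ ?_
  by_contra hne
  have : Fintype (Fˣ →* ℂˣ) := by
    have := finite_hom (F := F)
    exact Fintype.ofFinite _
  rcases degree_of_fixed hm hχ (by
    rw [sum_QG χ (isClassFunction_of_isCharacter (isCharacter_of_isIrr hχ))]
    exact mul_ne_zero (Nat.cast_ne_zero.mpr Fintype.card_ne_zero) hne) with h | h | h
  · rw [hk, Nat.cast_eq_one] at h; omega
  · rw [hk, index_PG hm, Nat.add_sub_cancel, Nat.cast_inj] at h; omega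
  · rw [hk, index_PG hm, Nat.cast_inj] at h; omega

/-- Integrality on the class of transvections. -/
theorem dvd_class (hm : 2 ≤ m) {χ : SL(m + 1, F) → ℂ} (hχ : IsIrrCharacter SL(m + 1, F) χ)
    {k c : ℕ} (hk : χ 1 = k) (hc : χ (t1 hm) = c) :
    k ∣ pts (Fintype.card F) (m + 1) * (Fintype.card F ^ m - 1) * c := by
  have hq := Fintype.one_lt_card (α := F)
  have h := Char.isIntegral_omega_irr hχ (t1 hm)
  rw [Char.omega, hk, hc, ← Nat.cast_mul] at h
  have hk0 : k ≠ 0 := fun e => irr_degree_ne_zero hχ (by rw [hk, e, Nat.cast_zero])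
  have hd := Char.dvd_of_isIntegral_div hk0 h
  have hcard := card_class_mul (F := F) (n := m + 1) (by omega : 3 ≤ m + 1)
    (w := Pi.single 0 1) (φ := Fin.cons 0 (Pi.single ⟨0, by omega⟩ 1)) (by simp)
    (fun e => by simpa using congrFun e (⟨0, by omega⟩ : Fin m).succ) (cons_dot_single _)
  rw [Nat.add_sub_cancel, ← sub_one_mul_pts hq.le (m + 1), mul_assoc] at hcard
  rw [← Nat.eq_of_mul_eq_mul_left (by omega) hcard]
  exact hd

theorem b_ne_zero (hm : 2 ≤ m)
    (hex : ¬ (m = 2 ∧ (Fintype.card F = 2 ∨ Fintype.card F = 4)) ∧ ¬ (m = 3 ∧ Fintype.card F ≤ 3))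
    {χ : SL(m + 1, F) → ℂ} (hχ : IsCharacter SL(m + 1, F) χ) {b : ℕ} (ht : χ (t1 hm) = (b : ℂ) - 1)
    (hs : sig χ 1 = b) (hco : ∀ y, y ≠ 0 → coef χ y 1 = 1) : b ≠ 0 := by
  rintro rfl
  have h := sig_tv hm hex hχ ht hco
  have hz : sig χ = 0 := by
    obtain ⟨d, ρ, hρ⟩ := isCharacter_sig hχ
    have hd : d = 0 := by
      have := congrFun hρ 1
      rw [Representation.char_one, Module.finrank_fin_fun, hs] at this
      exact_mod_cast this
    subst hd
    funext g
    rw [← hρ]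
    show LinearMap.trace ℂ _ (ρ g) = 0
    rw [Subsingleton.elim (ρ g) 0, map_zero]
  rw [hz, Pi.zero_apply, Nat.cast_zero, zero_sub, eq_comm, neg_eq_zero] at h
  exact pow_ne_zero _ (Nat.cast_ne_zero.mpr Fintype.card_ne_zero) h

theorem ne_pts_sub_one (hm : 2 ≤ m) {χ : SL(m + 1, F) → ℂ} (hχ : IsIrrCharacter SL(m + 1, F) χ)
    {k b : ℕ} (hk : χ 1 = k) (hkb : k = Fintype.card F ^ m - 1 + b)
    (ht : χ (t1 hm) = (b : ℂ) - 1) : b + 1 ≠ pts (Fintype.card F) m := by
  intro hb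
  set q := Fintype.card F with hqd
  have hq : 1 < q := Fintype.one_lt_card
  have h2 : 3 ≤ pts q m := by
    obtain ⟨j, rfl⟩ : ∃ j, m = j + 2 := ⟨m - 2, by omega⟩
    rw [pts_succ, pts_succ]
    have := Nat.le_mul_of_pos_right q (Nat.succ_pos (q * pts q j))
    simp only [Nat.succ_eq_add_one] at this
    omega
  have hc : χ (t1 hm) = ((b - 1 : ℕ) : ℂ) := by
    rw [ht, Nat.cast_sub (by omega), Nat.cast_one]
  have hd := dvd_class hm hχ hk hc
  rw [← hqd] at hd
  have hadd := pow_add_pts hq.le m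
  have hsub := sub_one_mul_pts hq.le m
  have hk1 : k + 1 = q * pts q m := by omega
  have hcop : Nat.Coprime k q := Nat.coprime_of_dvd fun p hp h₁ h₂ => by
    have h3 : p ∣ k + 1 := hk1 ▸ h₂.mul_right _
    exact hp.one_lt.ne' (Nat.dvd_one.mp ((Nat.dvd_add_right h₁).mp h3))
  have hpow : 1 ≤ q ^ m := Nat.one_le_pow _ _ (by omega)
  have hkq : b - 1 + q ^ m = k := by omega
  have hd1 : k ∣ pts q (m + 1) * (q ^ m - 1) * q ^ m := by
    have hd2 : k ∣ pts q (m + 1) * (q ^ m - 1) * (b - 1) + pts q (m + 1) * (q ^ m - 1) * q ^ m := by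
      rw [← mul_add, hkq]; exact dvd_mul_left _ _
    exact (Nat.dvd_add_right hd).mp hd2
  have hd3 : k ∣ pts q (m + 1) * (q ^ m - 1) := (hcop.pow_right m).dvd_of_dvd_mul_right hd1
  have hs : pts q (m + 1) = k + 2 := by rw [pts_succ]; omega
  rw [hs, add_mul] at hd3
  have hd4 : k ∣ 2 * (q ^ m - 1) := (Nat.dvd_add_right (dvd_mul_right k _)).mp hd3
  have hlt : pts q m ≤ q ^ m - 1 := hsub ▸ Nat.le_mul_of_pos_left _ (by omega)
  obtain ⟨r, hr⟩ := hd4
  rcases Nat.lt_or_ge r 2 with h | h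
  · interval_cases r <;> omega
  · have : k * 2 ≤ k * r := Nat.mul_le_mul_left _ h
    omega

/-- The statement for `SL(n, F)`. -/
def Bound (n : ℕ) (F : Type*) [Field F] [Fintype F] [DecidableEq F] : Prop :=
  ∀ χ : SL(n, F) → ℂ, IsIrrCharacter SL(n, F) χ → χ ≠ (fun _ => 1) → ∀ k : ℕ, χ 1 = k →
    Fintype.card F * pts (Fintype.card F) (n - 1) ≤ k

theorem bound_three (hq2 : Fintype.card F ≠ 2) (hq4 : Fintype.card F ≠ 4) : Bound 3 F := by
  classical
  intro χ hχ h1 k hk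
  by_contra! hlt
  have hm : 2 ≤ 2 := le_rfl
  obtain ⟨b, hkb, hblt, ht, hs, hco, -⟩ := reduce (m := 2) hm hχ h1 hk hlt
  have hc := isCharacter_of_isIrr hχ
  set q := Fintype.card F with hqd
  have hq : 1 < q := Fintype.one_lt_card
  have hpts : pts q 2 = q + 1 := by simp [pts, Finset.sum_range_succ, add_comm]
  have hex : ¬ ((2 : ℕ) = 2 ∧ (q = 2 ∨ q = 4)) ∧ ¬ ((2 : ℕ) = 3 ∧ q ≤ 3) := by omega
  have hval := sig_tv (m := 2) hm hex hc ht hco
  let u : AddChar F (GL (Fin 2) F) :=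
    ⟨fun s => Matrix.SpecialLinearGroup.toGL (tv hm s), by rw [tv_zero, map_one],
      fun s s' => by rw [tv_add, map_mul]⟩
  have hconj : ∀ s : F, s ≠ 0 → sig χ (u s) = (b : ℂ) - q := by
    intro s hs'
    have hd : (Matrix.diagonal ![s, 1]).det ≠ 0 := by simpa [det_diagonal, Fin.prod_univ_two] using hs'
    let B : GL (Fin 2) F := Matrix.GeneralLinearGroup.mkOfDetNeZero _ hd
    have e : B * u 1 * B⁻¹ = u s := by
      rw [mul_inv_eq_iff_eq_mul]
      apply Units.ext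
      show Matrix.diagonal ![s, 1] * (tv hm (1 : F) : Matrix (Fin 2) (Fin 2) F) =
        (tv hm s : Matrix (Fin 2) (Fin 2) F) * Matrix.diagonal ![s, 1]
      ext i j
      fin_cases i <;> fin_cases j <;>
        simp [tv_val, i0, i1, Matrix.mul_apply, Fin.sum_univ_two, vecMulVec_apply]
    rw [← e, isClassFunction_of_isCharacter (isCharacter_sig hc) (u 1) B]
    show sig χ (Matrix.SpecialLinearGroup.toGL (tv hm (1 : F))) = _
    rw [hval, show (2 : ℕ) - 1 = 1 from rfl, pow_one]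
  obtain ⟨r, hr⟩ := RankOne.exists_nat_ures u (isCharacter_sig hc) (0 : F)
  rw [RankOne.ures_zero, ← Finset.add_sum_erase _ _ (Finset.mem_univ (0 : F)),
    Finset.sum_congr rfl fun s hs' => hconj s (Finset.ne_of_mem_erase hs'), Finset.sum_const,
    Finset.card_erase_of_mem (Finset.mem_univ _), Finset.card_univ, AddChar.map_zero_eq_one, hs,
    nsmul_eq_mul, inv_mul_eq_iff_eq_mul₀ (Nat.cast_ne_zero.mpr Fintype.card_ne_zero), ← hqd,
    Nat.cast_sub hq.le] at hr
  have hb : b + 1 = r + q := by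
    have hq0 : (q : ℂ) ≠ 0 := Nat.cast_ne_zero.mpr (by omega)
    have h2 : (q : ℂ) * ((b : ℂ) + 1) = (q : ℂ) * ((r : ℂ) + q) := by
      push_cast at hr
      linear_combination hr
    exact_mod_cast mul_left_cancel₀ hq0 h2
  have hne := ne_pts_sub_one hm hχ hk hkb ht
  rw [← hqd, hpts] at hne
  have hbq : b + 1 = q := by omega
  obtain ⟨e, rfl⟩ : ∃ e, b = e + 1 := ⟨b - 1, by omega⟩
  have hd := dvd_class hm hχ (c := e) hk (by rw [ht]; push_cast; ring)
  rw [← hqd] at hd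
  have hk2 : k = (e + 1) * (e + 4) := by
    have : q ^ 2 = (e + 2) ^ 2 := by rw [← hbq]
    have h4 : 1 ≤ q ^ 2 := Nat.one_le_pow _ _ (by omega)
    have h5 : (e + 2) ^ 2 + e = (e + 1) * (e + 4) := by ring
    omega
  have h6 : q ^ 2 - 1 = (e + 1) * (e + 3) := by
    rw [← hbq]
    have : (e + 1 + 1) ^ 2 = (e + 1) * (e + 3) + 1 := by ring
    omega
  rw [h6, hk2, pts_succ, hpts, ← hbq] at hd
  have h7 : (e + 4) ∣ 12 := by
    have h8 : (e + 4) ∣ ((e + 1 + 1) * (e + 1 + 1 + 1) + 1) * (e + 3) * e := by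
      refine Nat.dvd_of_mul_dvd_mul_left (show 0 < e + 1 by omega) (hd.trans (dvd_of_eq ?_))
      ring
    have h9 : ((e + 4 : ℕ) : ℤ) ∣ (((e + 1 + 1) * (e + 1 + 1 + 1) + 1) * (e + 3) * e : ℕ) :=
      Int.natCast_dvd_natCast.mpr h8
    push_cast at h9
    have h10 : ((e : ℤ) + 4) ∣ ((e : ℤ) + 4) * ((e : ℤ) ^ 3 + 4 * e ^ 2 + 6 * e - 3) := dvd_mul_right _ _
    have h11 : ((e : ℤ) + 4) ∣ (12 : ℤ) := by
      rw [show (12 : ℤ) = (((e : ℤ) + 1 + 1) * ((e : ℤ) + 1 + 1 + 1) + 1) * ((e : ℤ) + 3) * (e : ℤ) -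
        ((e : ℤ) + 4) * ((e : ℤ) ^ 3 + 4 * e ^ 2 + 6 * e - 3) by ring]
      exact dvd_sub h9 h10
    exact_mod_cast h11
  have h12 : e + 4 ≤ 12 := Nat.le_of_dvd (by norm_num) h7
  have h13 : e < 9 := by omega
  have hqp : IsPrimePow q := FiniteField.isPrimePow_card F
  interval_cases e <;> first
    | omega
    | (revert h7; decide)
    | (rw [← hbq] at hqp; rw [isPrimePow_nat_iff_bounded] at hqp; revert hqp; decide +kernel)

theorem card_dvd_GL {n : ℕ} [Nonempty (Fin n)] :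
    Nat.card SL(n, F) ∣ ∏ i : Fin n, (Fintype.card F ^ n - Fintype.card F ^ (i : ℕ)) := by
  rw [← Classical.card_GL_fin, Classical.card_GL_eq_mul_card_SL]
  exact dvd_mul_left _ _

theorem bound_four_four (hq : Fintype.card F = 4) : Bound 4 F := by
  classical
  intro χ hχ h1 k hk
  by_contra! hlt
  have hm : 2 ≤ 3 := by decide
  obtain ⟨b, hkb, hblt, ht, hs, hco, htriv⟩ := reduce (m := 3) hm hχ h1 hk hlt
  have hc := isCharacter_of_isIrr hχ
  have hb0 := b_ne_zero (m := 3) hm (by omega) hc ht hs hco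
  obtain ⟨hD, hirr⟩ := constituent_bound (isCharacter_sigS hc) htriv (D := 15)
    (fun ψ hψ hψ1 d hd => by simpa [hq] using weak (m := 2) le_rfl hψ hψ1 hd)
    (by rw [sigS_one, hs]) hb0
  rw [hq] at hkb hblt
  simp [pts, Finset.sum_range_succ] at hblt hkb
  obtain ⟨d, hd, -, hdvd⟩ := exists_degree_dvd_card (hirr (by omega))
  rw [sigS_one, hs, Nat.cast_inj] at hd
  subst hd
  have hcl := dvd_class hm hχ (c := b - 1) hk (by rw [ht, Nat.cast_sub (by omega), Nat.cast_one])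
  have hdvd' := hdvd.trans card_dvd_GL
  rw [hq] at hcl hdvd'
  simp [pts, Finset.sum_range_succ, Fin.prod_univ_three] at hcl hdvd'
  subst hkb
  interval_cases b <;> omega

theorem bound_five_two (hq : Fintype.card F = 2) : Bound 5 F := by
  classical
  intro χ hχ h1 k hk
  by_contra! hlt
  have hm : 2 ≤ 4 := by decide
  obtain ⟨b, hkb, hblt, ht, hs, hco, htriv⟩ := reduce (m := 4) hm hχ h1 hk hlt
  have hc := isCharacter_of_isIrr hχ
  have hb0 := b_ne_zero (m := 4) hm (by omega) hc ht hs hco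
  obtain ⟨hD, hirr⟩ := constituent_bound (isCharacter_sigS hc) htriv (D := 7)
    (fun ψ hψ hψ1 d hd => by simpa [hq] using weak (m := 3) (by decide) hψ hψ1 hd)
    (by rw [sigS_one, hs]) hb0
  rw [hq] at hkb hblt
  simp [pts, Finset.sum_range_succ] at hblt hkb
  have hcl := dvd_class hm hχ (c := b - 1) hk (by rw [ht, Nat.cast_sub (by omega), Nat.cast_one])
  rw [hq] at hcl
  simp [pts, Finset.sum_range_succ] at hcl
  subst hkb
  have hb9 : b = 9 := by interval_cases b <;> omega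
  subst hb9
  have hψ := hirr (by norm_num)
  have hψ1 : sigS χ ≠ fun _ => 1 := fun e => by
    have h := congrFun e 1
    rw [sigS_one, hs] at h
    norm_num at h
  have hd9 : sigS χ 1 = ((9 : ℕ) : ℂ) := by rw [sigS_one, hs]
  obtain ⟨b', hkb', -, -, hs', -, htriv'⟩ := reduce (m := 3) (by decide) hψ hψ1 hd9
    (by simp [hq, pts, Finset.sum_range_succ])
  rw [hq] at hkb'
  obtain ⟨hD', -⟩ := constituent_bound (isCharacter_sigS (isCharacter_of_isIrr hψ)) htriv' (D := 3)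
    (fun ψ hψ hψ1 d hd => by simpa [hq] using weak (m := 2) le_rfl hψ hψ1 hd)
    (by rw [sigS_one, hs']) (by omega)
  omega

theorem bound_five_three (hq : Fintype.card F = 3) : Bound 5 F := by
  classical
  intro χ hχ h1 k hk
  by_contra! hlt
  have hm : 2 ≤ 4 := by decide
  obtain ⟨b, hkb, hblt, ht, hs, hco, htriv⟩ := reduce (m := 4) hm hχ h1 hk hlt
  have hc := isCharacter_of_isIrr hχ
  have hb0 := b_ne_zero (m := 4) hm (by omega) hc ht hs hco
  obtain ⟨hD, hirr⟩ := constituent_bound (isCharacter_sigS hc) htriv (D := 26)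
    (fun ψ hψ hψ1 d hd => by simpa [hq] using weak (m := 3) (by decide) hψ hψ1 hd)
    (by rw [sigS_one, hs]) hb0
  rw [hq] at hkb hblt
  simp [pts, Finset.sum_range_succ] at hblt hkb
  have hcl := dvd_class hm hχ (c := b - 1) hk (by rw [ht, Nat.cast_sub (by omega), Nat.cast_one])
  rw [hq] at hcl
  simp [pts, Finset.sum_range_succ] at hcl
  subst hkb
  have hb28 : b = 28 ∨ b = 30 := by interval_cases b <;> omega
  have hψ := hirr (by omega)
  have hψ1 : sigS χ ≠ fun _ => 1 := fun e => by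
    have h := congrFun e 1
    rw [sigS_one, hs, Nat.cast_eq_one] at h
    omega
  have hdb : sigS χ 1 = ((b : ℕ) : ℂ) := by rw [sigS_one, hs]
  obtain ⟨b', hkb', -, -, hs', -, htriv'⟩ := reduce (m := 3) (by decide) hψ hψ1 hdb
    (by simp [hq, pts, Finset.sum_range_succ]; omega)
  rw [hq] at hkb'
  obtain ⟨hD', -⟩ := constituent_bound (isCharacter_sigS (isCharacter_of_isIrr hψ)) htriv' (D := 8)
    (fun ψ hψ hψ1 d hd => by simpa [hq] using weak (m := 2) le_rfl hψ hψ1 hd)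
    (by rw [sigS_one, hs']) (by omega)
  omega

theorem bound : ∀ n : ℕ, 3 ≤ n → ¬ (n = 3 ∧ (Fintype.card F = 2 ∨ Fintype.card F = 4)) →
    ¬ (n = 4 ∧ Fintype.card F ≤ 3) → Bound n F := by
  intro n
  induction n with
  | zero => omega
  | succ m ih =>
    intro hn hex3 hex4
    have hq1 := Fintype.one_lt_card (α := F)
    rcases Nat.lt_or_ge m 3 with hm3 | hm3
    · obtain rfl : m = 2 := by omega
      exact bound_three (fun e => hex3 ⟨rfl, Or.inl e⟩) (fun e => hex3 ⟨rfl, Or.inr e⟩)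
    by_cases he3 : m = 3 ∧ (Fintype.card F = 2 ∨ Fintype.card F = 4)
    · obtain ⟨rfl, he⟩ := he3
      rcases he with he | he
      · exact absurd ⟨rfl, by omega⟩ hex4
      · exact bound_four_four he
    by_cases he4 : m = 4 ∧ Fintype.card F ≤ 3
    · obtain ⟨rfl, he⟩ := he4
      rcases (show Fintype.card F = 2 ∨ Fintype.card F = 3 by omega) with h | h
      · exact bound_five_two h
      · exact bound_five_three h
    have hB := ih hm3 he3 he4
    intro χ hχ h1 k hk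
    by_contra! hlt
    rw [Nat.add_sub_cancel] at hlt
    have hm : 2 ≤ m := by omega
    obtain ⟨b, hkb, hblt, ht, hs, hco, htriv⟩ := reduce hm hχ h1 hk hlt
    have hc := isCharacter_of_isIrr hχ
    have hb0 := b_ne_zero hm ⟨fun h => by omega, fun h => hex4 ⟨by omega, h.2⟩⟩ hc ht hs hco
    obtain ⟨hD, -⟩ := constituent_bound (isCharacter_sigS hc) htriv
      (D := Fintype.card F * pts (Fintype.card F) (m - 1)) (fun ψ hψ hψ1 d hd => hB ψ hψ hψ1 d hd)
      (by rw [sigS_one, hs]) hb0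
    have hp : pts (Fintype.card F) m = Fintype.card F * pts (Fintype.card F) (m - 1) + 1 := by
      conv_lhs => rw [show m = m - 1 + 1 by omega]
      exact pts_succ _ _
    exact ne_pts_sub_one hm hχ hk hkb ht (by omega)

theorem exists_minimal (hm : 2 ≤ m) :
    ∃ χ : SL(m + 1, F) → ℂ, IsIrrCharacter SL(m + 1, F) χ ∧
      χ 1 = ((Fintype.card F * pts (Fintype.card F) m : ℕ) : ℂ) := by
  classical
  have : Fintype (Fˣ →* ℂˣ) := by
    have := finite_hom (F := F)
    exact Fintype.ofFinite _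
  refine ⟨_, (piChar_spec hm).2, ?_⟩
  rw [Pi.sub_apply, piChar_one, index_PG hm]
  push_cast
  ring

end CfsgLib.SLMinDegree
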