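import Cfsg.Agent.Lib.SLMinDegree.Perm
import Cfsg.Agent.Lib.Char.Central

/-!
Restriction of a character of `SL(m + 1, F)` to the affine parabolic `F^m ⋊ GL(m, F)`.
-/

set_option autoImplicit false
set_option linter.unusedSectionVars false

namespace CfsgLib.SLMinDegree

open Matrix Cfsg CfsgLib.Char CfsgLib.SLBlocks
open scoped MatrixGroups

/-- The eigenspace of a normalised abelian group, as a character of the normaliser. -/
theorem isCharacter_eigen {G L V : Type*} [Group G] [Group L] [AddCommGroup V] [Fintype V]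
    (u : AddChar V G) (ℓ : L →* G) (ψ : AddChar V ℂ) (e : L → V ≃ V)
    (hψ : ∀ A x, ψ (e A x) = ψ x) (he : ∀ A x, ℓ A * u x = u (e A x) * ℓ A) {χ : G → ℂ}
    (hχ : IsCharacter G χ) :
    IsCharacter L (fun A => (Fintype.card V : ℂ)⁻¹ * ∑ x, (ψ x)⁻¹ * χ (u x * ℓ A)) := by
  obtain ⟨k, ρ, rfl⟩ := hχ
  set c : ℂ := (Fintype.card V : ℂ)⁻¹ with hc
  set P : Module.End ℂ (Fin k → ℂ) := c • ∑ x, (ψ x)⁻¹ • ρ (u x) with hP
  have hψ0 : ∀ x, ψ x ≠ 0 := fun x => by
    intro h
    have h1 := ψ.map_add_eq_mul x (-x)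
    rw [add_neg_cancel, AddChar.map_zero_eq_one, h, zero_mul] at h1
    exact one_ne_zero h1
  have hmul : ∀ z, ρ (u z) * P = ψ z • P := fun z => by
    rw [hP, mul_smul_comm, Finset.mul_sum, smul_smul, mul_comm (ψ z) c, ← smul_smul,
      Finset.smul_sum (r := ψ z)]
    congr 1
    refine Fintype.sum_equiv (Equiv.addLeft z) _ _ fun x => ?_
    rw [mul_smul_comm, ← map_mul, ← u.map_add_eq_mul, smul_smul, Equiv.coe_addLeft,
      ψ.map_add_eq_mul, mul_inv, ← mul_assoc, mul_inv_cancel₀ (hψ0 z), one_mul]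
  have hPP : P * P = P := by
    conv_lhs => arg 1; rw [hP]
    rw [smul_mul_assoc, Finset.sum_mul]
    simp only [smul_mul_assoc, hmul, smul_smul]
    rw [Finset.sum_congr rfl fun x _ => by rw [inv_mul_cancel₀ (hψ0 x), one_smul], Finset.sum_const,
      Finset.card_univ, ← Nat.cast_smul_eq_nsmul ℂ, smul_smul, hc,
      inv_mul_cancel₀ (Nat.cast_ne_zero.mpr Fintype.card_ne_zero), one_smul]
  have hcomm : ∀ A, ρ (ℓ A) * P = P * ρ (ℓ A) := fun A => by
    rw [hP, mul_smul_comm, smul_mul_assoc, Finset.mul_sum, Finset.sum_mul]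
    congr 1
    refine Fintype.sum_equiv (e A) _ _ fun x => ?_
    rw [mul_smul_comm, smul_mul_assoc, ← map_mul, ← map_mul, he, hψ]
  let W : Subrepresentation (MonoidHom.comp ρ ℓ : Representation ℂ L (Fin k → ℂ)) :=
    { toSubmodule := LinearMap.range P
      apply_mem_toSubmodule := by
        rintro A _ ⟨v, rfl⟩
        exact ⟨ρ (ℓ A) v, (LinearMap.congr_fun (hcomm A) v).symm⟩ }
  have hfun : (fun A => c * ∑ x, (ψ x)⁻¹ * ρ.character (u x * ℓ A)) = W.toRepresentation.character := by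
    funext A
    have h1 : c * ∑ x, (ψ x)⁻¹ * ρ.character (u x * ℓ A) =
        LinearMap.trace ℂ _ (ρ (ℓ A) * P) := by
      rw [hcomm, hP, smul_mul_assoc, Finset.sum_mul, map_smul, map_sum, smul_eq_mul]
      congr 1
      refine Finset.sum_congr rfl fun x _ => ?_
      rw [smul_mul_assoc, map_smul, smul_eq_mul, ← map_mul]
      rfl
    rw [h1]
    let π : (Fin k → ℂ) →ₗ[ℂ] LinearMap.range P := LinearMap.rangeRestrict P
    have h2 : π ∘ₗ (LinearMap.range P).subtype = LinearMap.id := by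
      refine LinearMap.ext fun v => Subtype.ext ?_
      obtain ⟨w, hw⟩ := v.2
      show P v.1 = v.1
      rw [← hw]
      exact LinearMap.congr_fun hPP w
    have h3 : ρ (ℓ A) * P =
        (LinearMap.range P).subtype ∘ₗ ((W.toRepresentation A : LinearMap.range P →ₗ[ℂ] LinearMap.range P) ∘ₗ π) :=
      LinearMap.ext fun v => rfl
    rw [h3, LinearMap.trace_comp_comm', LinearMap.comp_assoc, h2, LinearMap.comp_id]
    rfl
  rw [hfun]
  exact isCharacter_character _

variable {F : Type*} [Field F] [Fintype F] [DecidableEq F] {m : ℕ}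

/-- The translations. -/
def rowChar : AddChar (Fin m → F) SL(m + 1, F) := ⟨rowT, rowT_zero', rowT_add⟩

theorem rowChar_apply (x : Fin m → F) : (rowChar x : SL(m + 1, F)) = rowT x := rfl

/-- The characters of the translations. -/
noncomputable def dotChar (y : Fin m → F) : AddChar (Fin m → F) ℂ where
  toFun x := RankOne.psi F (x ⬝ᵥ y)
  map_zero_eq_one' := by rw [zero_dotProduct, AddChar.map_zero_eq_one]
  map_add_eq_mul' x z := by rw [add_dotProduct, AddChar.map_add_eq_mul]

theorem dotChar_apply (y x : Fin m → F) : dotChar y x = RankOne.psi F (x ⬝ᵥ y) := rfl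

theorem psi_ne_zero (b : F) : RankOne.psi F b ≠ 0 := fun h => by
  have h1 := (RankOne.psi F).map_add_eq_mul b (-b)
  rw [add_neg_cancel, AddChar.map_zero_eq_one, h, zero_mul] at h1
  exact one_ne_zero h1

theorem exists_psi_ne_one {b : F} (hb : b ≠ 0) : ∃ x : F, RankOne.psi F (b * x) ≠ 1 := by
  by_contra! h
  have := RankOne.psi_sum b
  rw [if_neg hb, Finset.sum_congr rfl fun x _ => h x, Finset.sum_const, Finset.card_univ,
    nsmul_one] at this
  exact (Nat.cast_ne_zero.mpr Fintype.card_ne_zero) this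

theorem sum_dotChar (x : Fin m → F) :
    ∑ y : Fin m → F, (dotChar y x)⁻¹ = if x = 0 then ((Fintype.card F ^ m : ℕ) : ℂ) else 0 := by
  split_ifs with hx
  · subst hx
    simp
  · let χ : AddChar (Fin m → F) ℂ :=
      ⟨fun y => RankOne.psi F (-(x ⬝ᵥ y)), by rw [dotProduct_zero, neg_zero, AddChar.map_zero_eq_one],
        fun y z => by rw [dotProduct_add, neg_add, AddChar.map_add_eq_mul]⟩
    have hne : χ ≠ 0 := fun h => by
      obtain ⟨i, hi⟩ := Function.ne_iff.mp hx
      obtain ⟨s, hs⟩ := exists_psi_ne_one (neg_ne_zero.mpr hi)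
      refine hs ?_
      have h1 := DFunLike.congr_fun h (Pi.single i s)
      simpa [χ] using h1
    refine Eq.trans (Finset.sum_congr rfl fun y _ => ?_) (AddChar.sum_eq_zero_iff_ne_zero.mpr hne)
    refine inv_eq_of_mul_eq_one_right ?_
    rw [dotChar_apply]
    show RankOne.psi F (x ⬝ᵥ y) * RankOne.psi F (-(x ⬝ᵥ y)) = 1
    rw [← AddChar.map_add_eq_mul, add_neg_cancel, AddChar.map_zero_eq_one]

/-- The `y`-part of the restriction to the parabolic. -/
noncomputable def coef (χ : SL(m + 1, F) → ℂ) (y : Fin m → F) (A : GL (Fin m) F) : ℂ :=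
  (Fintype.card (Fin m → F) : ℂ)⁻¹ * ∑ x, (dotChar y x)⁻¹ * χ (rowT x * levi A)

/-- Conjugation on translations. -/
def moveEquiv (A : GL (Fin m) F) : (Fin m → F) ≃ (Fin m → F) where
  toFun x := ((A : Matrix (Fin m) (Fin m) F).det)⁻¹ •
    (x ᵥ* ((A⁻¹ : GL (Fin m) F) : Matrix (Fin m) (Fin m) F))
  invFun x := (A : Matrix (Fin m) (Fin m) F).det • (x ᵥ* (A : Matrix (Fin m) (Fin m) F))
  left_inv x := by
    simp only [smul_vecMul, vecMul_vecMul, ← Units.val_mul, inv_mul_cancel, Units.val_one, vecMul_one,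
      smul_smul, mul_inv_cancel₀ A.det_ne_zero, one_smul]
  right_inv x := by
    simp only [smul_vecMul, vecMul_vecMul, ← Units.val_mul, mul_inv_cancel, Units.val_one, vecMul_one,
      smul_smul, inv_mul_cancel₀ A.det_ne_zero, one_smul]

theorem levi_mul_rowT (A : GL (Fin m) F) (x : Fin m → F) :
    levi A * rowT x = rowT (moveEquiv A x) * levi A := levi_rowT A x

/-- The stabilizer of a character of the translations. -/
def Lstab (y : Fin m → F) : Subgroup (GL (Fin m) F) where
  carrier := {A | (A : Matrix (Fin m) (Fin m) F).det • ((A : Matrix (Fin m) (Fin m) F) *ᵥ y) = y}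
  one_mem' := by simp
  mul_mem' := fun {A B} hA hB => by
    show (((A * B : GL (Fin m) F) : Matrix (Fin m) (Fin m) F)).det •
      (((A * B : GL (Fin m) F) : Matrix (Fin m) (Fin m) F) *ᵥ y) = y
    rw [Units.val_mul, det_mul, ← smul_smul, ← mulVec_mulVec]
    conv_rhs => rw [← (show _ = y from hA)]
    congr 1
    rw [← mulVec_smul, show _ = y from hB]
  inv_mem' := fun {A} hA => by
    show (((A⁻¹ : GL (Fin m) F) : Matrix (Fin m) (Fin m) F)).det •
      (((A⁻¹ : GL (Fin m) F) : Matrix (Fin m) (Fin m) F) *ᵥ y) = y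
    nth_rw 1 [← (show _ = y from hA)]
    rw [mulVec_smul, mulVec_mulVec, ← Units.val_mul, inv_mul_cancel, Units.val_one, one_mulVec,
      smul_smul, ← det_mul, ← Units.val_mul, inv_mul_cancel, Units.val_one, det_one, one_smul]

theorem mem_Lstab {y : Fin m → F} {A : GL (Fin m) F} : A ∈ Lstab y ↔
    (A : Matrix (Fin m) (Fin m) F).det • ((A : Matrix (Fin m) (Fin m) F) *ᵥ y) = y := Iff.rfl

theorem mem_Lstab_zero (A : GL (Fin m) F) : A ∈ Lstab (0 : Fin m → F) := by
  rw [mem_Lstab, mulVec_zero, smul_zero]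

theorem isCharacter_coef {χ : SL(m + 1, F) → ℂ} (hχ : IsCharacter SL(m + 1, F) χ)
    (y : Fin m → F) : IsCharacter (Lstab y) (fun A => coef χ y A) := by
  have key := isCharacter_eigen (G := SL(m + 1, F)) (L := Lstab y) (V := Fin m → F) rowChar
    ((levi : GL (Fin m) F →* SL(m + 1, F)).comp (Lstab y).subtype) (dotChar y)
    (fun A => moveEquiv (A : GL (Fin m) F))
  refine key (fun A x => ?_)
    (fun A x => levi_mul_rowT (A : GL (Fin m) F) x) hχ
  rw [dotChar_apply, dotChar_apply]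
  congr 1
  have hA : ((A⁻¹ : Lstab y) : GL (Fin m) F) ∈ Lstab y := SetLike.coe_mem _
  rw [mem_Lstab, Subgroup.coe_inv] at hA
  have hd : (((A : GL (Fin m) F)⁻¹ : GL (Fin m) F) : Matrix (Fin m) (Fin m) F).det =
      ((A : GL (Fin m) F) : Matrix (Fin m) (Fin m) F).det⁻¹ := by
    refine eq_inv_of_mul_eq_one_left ?_
    rw [← det_mul, ← Units.val_mul, inv_mul_cancel, Units.val_one, det_one]
  show ((((A : GL (Fin m) F) : Matrix (Fin m) (Fin m) F).det)⁻¹ •
    (x ᵥ* (((A : GL (Fin m) F)⁻¹ : GL (Fin m) F) : Matrix (Fin m) (Fin m) F))) ⬝ᵥ y = x ⬝ᵥ y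
  rw [smul_dotProduct, ← dotProduct_mulVec, ← dotProduct_smul, ← hd, hA]

/-- The fixed points of the translations, as a character of `GL(m, F)`. -/
noncomputable def sig (χ : SL(m + 1, F) → ℂ) : GL (Fin m) F → ℂ := coef χ 0

theorem isCharacter_sig {χ : SL(m + 1, F) → ℂ} (hχ : IsCharacter SL(m + 1, F) χ) :
    IsCharacter (GL (Fin m) F) (sig χ) :=
  isCharacter_comp (⟨⟨fun A => ⟨A, mem_Lstab_zero A⟩, rfl⟩, fun _ _ => rfl⟩ :
    GL (Fin m) F →* Lstab (0 : Fin m → F)) (isCharacter_coef hχ 0)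

theorem sum_coef (χ : SL(m + 1, F) → ℂ) (A : GL (Fin m) F) : ∑ y, coef χ y A = χ (levi A) := by
  simp only [coef, ← Finset.mul_sum]
  rw [Finset.sum_comm]
  simp only [← Finset.sum_mul, sum_dotChar, ite_mul, zero_mul, Finset.sum_ite_eq', Finset.mem_univ,
    if_true, rowT_zero', one_mul]
  rw [Fintype.card_fun, Fintype.card_fin, ← mul_assoc, inv_mul_cancel₀ (Nat.cast_ne_zero.mpr
    (pow_ne_zero _ Fintype.card_ne_zero)), one_mul]

theorem coef_eq_zero {χ : SL(m + 1, F) → ℂ} (hχ : IsClassFunction SL(m + 1, F) χ) {y : Fin m → F}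
    {A : GL (Fin m) F} (z : Fin m → F)
    (hz : RankOne.psi F ((z - moveEquiv A z) ⬝ᵥ y) ≠ 1) : coef χ y A = 0 := by
  set d := z - moveEquiv A z with hd
  have hc : ∀ x, χ (rowT (x + d) * levi A) = χ (rowT x * levi A) := fun x => by
    rw [← hχ (rowT x * levi A) (rowT z)]
    congr 1
    have h1 : levi A * (rowT z)⁻¹ = rowT (-(moveEquiv A z)) * levi A := by
      rw [mul_inv_eq_iff_eq_mul, mul_assoc, levi_mul_rowT, ← mul_assoc, ← rowT_add,
        neg_add_cancel, rowT_zero', one_mul]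
    rw [mul_assoc, mul_assoc, h1, ← mul_assoc, ← mul_assoc, ← rowT_add, ← rowT_add]
    congr 2
    rw [hd]; abel
  have h : coef χ y A * dotChar y d = coef χ y A := by
    simp only [coef, mul_assoc, Finset.sum_mul]
    congr 1
    refine (Fintype.sum_equiv (Equiv.addRight d) _ _ fun x => ?_).symm
    rw [Equiv.coe_addRight, hc, (dotChar y).map_add_eq_mul, mul_inv]
    have := psi_ne_zero (d ⬝ᵥ y)
    rw [dotChar_apply y d]
    field_simp
  refine (mul_eq_zero.mp (show coef χ y A * (dotChar y d - 1) = 0 by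
    rw [mul_sub, mul_one, h, sub_self])).resolve_right ?_
  exact sub_ne_zero.mpr hz

theorem rowT_ne_isConj (hm : 2 ≤ m) {x z : Fin m → F} (hx : x ≠ 0) (hz : z ≠ 0) :
    IsConj (rowT x) (rowT z) :=
  isConj_tr (by omega) (by simp) (fun e => hx (funext fun i => by simpa using congrFun e i.succ))
    (cons_dot_single x) (by simp) (fun e => hz (funext fun i => by simpa using congrFun e i.succ))
    (cons_dot_single z)

/-- The translation by the first basis vector. -/
def t1 (hm : 2 ≤ m) : SL(m + 1, F) := rowT (Pi.single ⟨0, by omega⟩ 1)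

theorem chi_rowT {χ : SL(m + 1, F) → ℂ} (hχ : IsClassFunction SL(m + 1, F) χ) (hm : 2 ≤ m)
    {x : Fin m → F} (hx : x ≠ 0) : χ (rowT x) = χ (t1 hm) :=
  Char.eq_of_isConj hχ (rowT_ne_isConj hm hx (by simp))

/-- The two multiplicities. -/
theorem exists_ab {χ : SL(m + 1, F) → ℂ} (hχ : IsCharacter SL(m + 1, F) χ) (hm : 2 ≤ m) :
    ∃ a b : ℕ, χ 1 = ((a * (Fintype.card F ^ m - 1) + b : ℕ) : ℂ) ∧ χ (t1 hm) = (b : ℂ) - a ∧
      sig χ 1 = b ∧ ∀ y, y ≠ 0 → coef χ y 1 = a := by
  have hcl := isClassFunction_of_isCharacter hχ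
  set c : ℂ := (Fintype.card (Fin m → F) : ℂ) with hc
  have hc0 : c ≠ 0 := Nat.cast_ne_zero.mpr Fintype.card_ne_zero
  have hy : ∀ y : Fin m → F, coef χ y 1 =
      c⁻¹ * (χ 1 - χ (t1 hm) + (∑ x, (dotChar y x)⁻¹) * χ (t1 hm)) := fun y => by
    rw [coef, ← hc, map_one]
    congr 1
    have h : ∀ x, (dotChar y x)⁻¹ * χ (rowT x * 1) =
        (if x = 0 then χ 1 - χ (t1 hm) else 0) + (dotChar y x)⁻¹ * χ (t1 hm) := fun x => by
      rw [mul_one]
      split_ifs with hx
      · subst hx
        simp [rowT_zero']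
      · rw [chi_rowT hcl hm hx, zero_add]
    rw [Finset.sum_congr rfl fun x _ => h x, Finset.sum_add_distrib, Finset.sum_ite_eq',
      if_pos (Finset.mem_univ _), Finset.sum_mul]
  have hsum : ∀ y : Fin m → F, ∑ x, (dotChar y x)⁻¹ = if y = 0 then c else 0 := fun y => by
    rw [Finset.sum_congr rfl fun x _ => show (dotChar y x)⁻¹ = (dotChar x y)⁻¹ by
      rw [dotChar_apply, dotChar_apply, dotProduct_comm], sum_dotChar, hc, Fintype.card_fun,
      Fintype.card_fin]
  obtain ⟨b, hb⟩ := exists_nat_degree (isCharacter_sig hχ)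
  let y₁ : Fin m → F := Pi.single ⟨0, by omega⟩ 1
  have hy₁ : y₁ ≠ 0 := by simp [y₁]
  obtain ⟨a, ha⟩ := exists_nat_degree (isCharacter_coef hχ y₁)
  rw [OneMemClass.coe_one] at ha
  have e1 := hy y₁
  rw [hsum, if_neg hy₁, zero_mul, add_zero, ha] at e1
  have e0 := hy 0
  rw [hsum, if_pos rfl, show coef χ 0 1 = sig χ 1 from rfl, hb] at e0
  refine ⟨a, b, ?_, ?_, hb, fun y hy0 => by rw [hy y, hsum, if_neg hy0, zero_mul, add_zero, e1]⟩
  · have hq : c = ((Fintype.card F ^ m : ℕ) : ℂ) := by rw [hc, Fintype.card_fun, Fintype.card_fin]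
    have h1 : 1 ≤ Fintype.card F ^ m := Nat.one_le_pow _ _ Fintype.card_pos
    rw [Nat.cast_add, Nat.cast_mul, Nat.cast_sub h1, ← hq, Nat.cast_one, e1, e0]
    field_simp
    ring
  · rw [e1, e0]
    field_simp
    ring

theorem eq_one_of_chi_t1 {χ : SL(m + 1, F) → ℂ} (hχ : IsIrrCharacter SL(m + 1, F) χ) (hm : 2 ≤ m)
    (h : χ (t1 hm) = χ 1) : χ = fun _ => 1 := by
  have hc := isCharacter_of_isIrr hχ
  have hcl := isClassFunction_of_isCharacter hc
  obtain ⟨K, -, hK, hKmul⟩ := exists_kernel hc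
  have : Nontrivial (Fin (m + 1)) := Fin.nontrivial_iff_two_le.mpr (by omega)
  have htop : K = ⊤ := Classical.eq_top_of_transvection_mem K fun i j hij c => by
    rcases eq_or_ne c 0 with rfl | hc0
    · have : Matrix.SpecialLinearGroup.transvection hij (0 : F) = 1 := by
        apply Subtype.ext; simp [Matrix.SpecialLinearGroup.transvection, Matrix.transvection]
      rw [this]; exact one_mem K
    have hd : (Pi.single j 1 : Fin (m + 1) → F) ⬝ᵥ Pi.single i c = 0 := by
      rw [dotProduct_single, Pi.single_eq_of_ne hij, zero_mul]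
    have e : Matrix.SpecialLinearGroup.transvection hij c = tr hd := by
      apply Subtype.ext
      rw [tr_val]
      ext a b
      simp [Matrix.SpecialLinearGroup.transvection, Matrix.transvection, Matrix.single_apply,
        vecMulVec_apply, Pi.single_apply, and_comm, eq_comm]
      split_ifs <;> simp_all
    rw [hK, e, ← h]
    exact Char.eq_of_isConj hcl (isConj_tr (by omega) (by simpa using hc0) (by simp) hd (by simp)
      (fun e' => by simpa using congrFun e' (⟨0, by omega⟩ : Fin m).succ) (cons_dot_single _))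
  have hconst : ∀ g, χ g = χ 1 := fun g => (hK g).mp (htop ▸ Subgroup.mem_top g)
  classical
  have hinner : classInner χ (fun _ => 1) ≠ 0 := by
    rw [classInner]
    simp only [hconst, map_one, mul_one, Finset.sum_const, Finset.card_univ, nsmul_eq_mul,
      ← Nat.card_eq_fintype_card]
    rw [inv_mul_cancel_left₀ (Nat.cast_ne_zero.mpr Nat.card_pos.ne')]
    exact irr_degree_ne_zero hχ
  exact RankOne.eq_of_inner_ne_zero hχ isIrrCharacter_one hinner

section Root

variable (hm : 2 ≤ m)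

/-- The index `0`. -/
def i0 : Fin m := ⟨0, by omega⟩

/-- The index `1`. -/
def i1 : Fin m := ⟨1, by omega⟩

theorem i1_ne : i1 hm ≠ i0 hm := by simp [i0, i1]

theorem dot_tv (s : F) : (Pi.single (i1 hm) s : Fin m → F) ⬝ᵥ Pi.single (i0 hm) 1 = 0 := by
  rw [dotProduct_single_one, Pi.single_eq_of_ne (i1_ne hm).symm]

/-- A root subgroup of `SL(m, F)`. -/
def tv (s : F) : SL(m, F) := tr (dot_tv hm s)

theorem tv_val (s : F) : (tv hm s : Matrix (Fin m) (Fin m) F) =
    1 + vecMulVec (Pi.single (i0 hm) 1) (Pi.single (i1 hm) s) := rfl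

theorem tv_add (s s' : F) : tv hm (s + s') = tv hm s * tv hm s' := by
  apply Subtype.ext
  rw [Matrix.SpecialLinearGroup.coe_mul, tv_val, tv_val, tv_val, mul_add, mul_one, add_mul, one_mul,
    vecMulVec_mul_vecMulVec, dot_tv, Pi.single_add, vecMulVec_add]
  simp only [zero_smul, vecMulVec_zero, add_zero]
  abel

theorem tv_zero : tv hm (0 : F) = 1 := by
  apply Subtype.ext
  simp [tv_val]

theorem tv_mulVec (s : F) (y : Fin m → F) :
    (tv hm s : Matrix (Fin m) (Fin m) F) *ᵥ y = y + (s * y (i1 hm)) • Pi.single (i0 hm) 1 := by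
  rw [tv, tr_mulVec, single_dotProduct]

theorem tv_mem (s : F) {y : Fin m → F} (hy : y (i1 hm) = 0) :
    Matrix.SpecialLinearGroup.toGL (tv hm s) ∈ Lstab y := by
  rw [mem_Lstab]
  show (tv hm s : Matrix (Fin m) (Fin m) F).det • ((tv hm s : Matrix (Fin m) (Fin m) F) *ᵥ y) = y
  rw [(tv hm s).2, one_smul, tv_mulVec, hy, mul_zero, zero_smul, add_zero]

theorem coef_tv_eq_zero {χ : SL(m + 1, F) → ℂ} (hχ : IsClassFunction SL(m + 1, F) χ)
    {y : Fin m → F} (hy : y (i1 hm) ≠ 0) :
    coef χ y (Matrix.SpecialLinearGroup.toGL (tv hm 1)) = 0 := by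
  obtain ⟨s, hs⟩ := exists_psi_ne_one hy
  refine coef_eq_zero hχ (Pi.single (i0 hm) s) ?_
  have hd : (Pi.single (i0 hm) s : Fin m → F) -
      moveEquiv (Matrix.SpecialLinearGroup.toGL (tv hm 1)) (Pi.single (i0 hm) s) =
      Pi.single (i1 hm) s := by
    rw [moveEquiv]
    show _ - ((tv hm (1 : F)).1.det)⁻¹ •
      (_ ᵥ* (((tv hm (1 : F))⁻¹ : SL(m, F)) : Matrix (Fin m) (Fin m) F)) = _
    have hinv : (tv hm (1 : F))⁻¹ = tv hm (-1) := inv_eq_of_mul_eq_one_right (by
      rw [← tv_add, add_neg_cancel, tv_zero])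
    rw [(tv hm 1).2, inv_one, one_smul, hinv, tv_val, vecMul_add, vecMul_one]
    funext j
    simp [vecMulVec_apply, Pi.single_apply]
    split_ifs <;> simp
  rwa [hd, single_dotProduct, mul_comm]

theorem levi_tv (s : F) (hs : s ≠ 0) :
    IsConj (levi (Matrix.SpecialLinearGroup.toGL (tv hm s))) (t1 hm) := by
  have hd : (Fin.cons 0 (Pi.single (i1 hm) s) : Fin (m + 1) → F) ⬝ᵥ
      Fin.cons 0 (Pi.single (i0 hm) 1) = 0 := by
    simpa [dotProduct, Fin.sum_univ_succ] using dot_tv hm s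
  have e : levi (Matrix.SpecialLinearGroup.toGL (tv hm s)) = tr hd := by
    apply Subtype.ext
    rw [levi_val, tr_val]
    show leviMat (tv hm s : Matrix (Fin m) (Fin m) F) = _
    unfold leviMat
    rw [(tv hm s).2, inv_one, tv_val]
    ext i j
    refine Fin.cases ?_ (fun i => ?_) i <;> refine Fin.cases ?_ (fun j => ?_) j <;>
      simp [vecMulVec_apply, Matrix.one_apply, Fin.succ_ne_zero, (Fin.succ_ne_zero _).symm]
  rw [e, t1, rowT]
  exact isConj_tr (by omega) (fun e' => by simpa using congrFun e' (i0 hm).succ)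
    (fun e' => hs (by simpa using congrFun e' (i1 hm).succ)) hd (by simp)
    (fun e' => by simpa using congrFun e' (⟨0, by omega⟩ : Fin m).succ) (cons_dot_single _)

end Root

/-- The stabilizer of the first basis vector, split. -/
theorem sum_QG (χ : SL(m + 1, F) → ℂ) (hχ : IsClassFunction SL(m + 1, F) χ) :
    ∑ g : QG m F, χ g = (Fintype.card (Fin m → F) : ℂ) *
      ∑ A : SL(m, F), sig χ (Matrix.SpecialLinearGroup.toGL A) := by
  classical
  have hval : ∀ (A : SL(m, F)) (x : Fin m → F),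
      ((levi (Matrix.SpecialLinearGroup.toGL A) * rowT x : SL(m + 1, F)) :
        Matrix (Fin (m + 1)) (Fin (m + 1)) F) =
      Matrix.of fun i => Fin.cases (Fin.cons 1 x) (fun i' => Fin.cons 0 ((A : Matrix (Fin m) (Fin m) F) i')) i := by
    intro A x
    rw [Matrix.SpecialLinearGroup.coe_mul, levi_val]
    show leviMat (A : Matrix (Fin m) (Fin m) F) * _ = _
    ext i j
    refine Fin.cases ?_ (fun i => ?_) i <;> refine Fin.cases ?_ (fun j => ?_) j <;>
      simp [leviMat, A.2, Matrix.mul_apply, Fin.sum_univ_succ, rowT_zero, rowT_succ, Fin.succ_ne_zero,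
        (Fin.succ_ne_zero _).symm]
  have hmem : ∀ p : SL(m, F) × (Fin m → F),
      levi (Matrix.SpecialLinearGroup.toGL p.1) * rowT p.2 ∈ QG m F := fun p => by
    rw [mem_QG, hval]
    funext i
    refine Fin.cases ?_ (fun i => ?_) i <;> simp [e0, mulVec_single_one]
  let f : SL(m, F) × (Fin m → F) → QG m F := fun p => ⟨_, hmem p⟩
  have hf : Function.Bijective f := by
    refine ⟨fun p p' h => ?_, fun g => ?_⟩
    · have h1 : ((f p : SL(m + 1, F)) : Matrix (Fin (m + 1)) (Fin (m + 1)) F) = (f p' : SL(m + 1, F)).1 :=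
        by rw [h]
      simp only [f, hval] at h1
      refine Prod.ext (Subtype.ext ?_) ?_
      · ext i j
        simpa using congrFun (congrFun h1 i.succ) j.succ
      · funext j
        simpa using congrFun (congrFun h1 0) j.succ
    · set M := ((g : SL(m + 1, F)) : Matrix (Fin (m + 1)) (Fin (m + 1)) F) with hM
      have hcol : ∀ i, M i 0 = if i = 0 then 1 else 0 := fun i => by
        have h0 := congrFun (mem_QG.mp g.2) i
        simpa [e0, mulVec_single_one, Pi.single_apply] using h0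
      have hdet : (M.submatrix Fin.succ Fin.succ).det = 1 := by
        have h1 : M.det = 1 := (g : SL(m + 1, F)).2
        rw [det_succ_column_zero, Fin.sum_univ_succ] at h1
        simpa [hcol, Fin.succ_ne_zero] using h1
      refine ⟨(⟨M.submatrix Fin.succ Fin.succ, hdet⟩, fun j => M 0 j.succ), ?_⟩
      refine Subtype.ext (Subtype.ext ?_)
      rw [← hM]
      show ((levi _ * rowT _ : SL(m + 1, F)) : Matrix (Fin (m + 1)) (Fin (m + 1)) F) = M
      rw [hval]
      ext i j
      refine Fin.cases ?_ (fun i => ?_) i <;> refine Fin.cases ?_ (fun j => ?_) j <;>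
        simp [hcol, Fin.succ_ne_zero]
  rw [← Fintype.sum_bijective f hf (fun p => χ (f p)) _ fun p => rfl, Fintype.sum_prod_type,
    Finset.mul_sum]
  refine Finset.sum_congr rfl fun A _ => ?_
  rw [sig, coef, ← mul_assoc, mul_inv_cancel₀ (Nat.cast_ne_zero.mpr Fintype.card_ne_zero), one_mul]
  refine Finset.sum_congr rfl fun x _ => ?_
  simp only [f, dotChar_apply, dotProduct_zero, AddChar.map_zero_eq_one, inv_one, one_mul]
  rw [← hχ (rowT x * levi (Matrix.SpecialLinearGroup.toGL A)) (rowT x)⁻¹]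
  congr 1
  group

end CfsgLib.SLMinDegree
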