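import Cfsg.Agent.Lib.SLBlocks.Radical
import Cfsg.Agent.Lib.Classical.Transvection
import Cfsg.Agent.Lib.Blocks.CentralChar

/-!
The affine maximal parabolic of `SL(m + 1, F)` and the class of transvections.
-/

set_option autoImplicit false
set_option linter.unusedSectionVars false

namespace CfsgLib.SLMinDegree

open Matrix CfsgLib.SLBlocks
open scoped MatrixGroups

variable {F : Type*} [Field F] {m : ℕ}

theorem cons_dot_single (x : Fin m → F) :
    (Fin.cons 0 x : Fin (m + 1) → F) ⬝ᵥ Pi.single 0 1 = 0 := by simp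

/-- The translation part. -/
def rowT (x : Fin m → F) : SL(m + 1, F) := tr (cons_dot_single x)

theorem rowT_succ (x : Fin m → F) (i : Fin m) (j : Fin (m + 1)) :
    (rowT x : Matrix (Fin (m + 1)) (Fin (m + 1)) F) i.succ j =
      if i.succ = j then 1 else 0 := by
  simp [rowT, tr_val, vecMulVec_apply, Matrix.one_apply]

theorem rowT_zero (x : Fin m → F) :
    (rowT x : Matrix (Fin (m + 1)) (Fin (m + 1)) F) 0 = Fin.cons 1 x := by
  funext j
  refine Fin.cases ?_ (fun j => ?_) j
  · simp [rowT, tr_val, vecMulVec_apply]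
  · simp [rowT, tr_val, vecMulVec_apply, Matrix.one_apply, (Fin.succ_ne_zero j).symm]

theorem rowT_add (x y : Fin m → F) : rowT (x + y) = rowT x * rowT y := by
  apply Subtype.ext
  simp only [Matrix.SpecialLinearGroup.coe_mul, rowT, tr_val]
  simp only [add_mul, mul_add, one_mul, mul_one, vecMulVec_mul_vecMulVec]
  rw [cons_dot_single]
  ext i j
  simp only [Matrix.add_apply, vecMulVec_apply, Pi.smul_apply, smul_eq_mul]
  refine Fin.cases ?_ (fun j => ?_) j <;> simp [mul_add] <;> ring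

theorem rowT_zero' : rowT (0 : Fin m → F) = 1 := by
  have h := rowT_add (0 : Fin m → F) 0
  rw [add_zero] at h
  exact left_eq_mul.mp h

/-- The matrix of the Levi embedding. -/
def leviMat (A : Matrix (Fin m) (Fin m) F) : Matrix (Fin (m + 1)) (Fin (m + 1)) F :=
  Matrix.of fun i => Fin.cases (Fin.cons (A.det)⁻¹ 0) (fun i' => Fin.cons 0 (A i')) i

theorem det_leviMat (A : GL (Fin m) F) : (leviMat (A : Matrix (Fin m) (Fin m) F)).det = 1 := by
  rw [det_succ_row_zero, Fin.sum_univ_succ]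
  have h : (leviMat (A : Matrix (Fin m) (Fin m) F)).submatrix Fin.succ (Fin.succAbove 0) =
      (A : Matrix (Fin m) (Fin m) F) := by
    ext i j; simp [leviMat]
  rw [h]
  have hne := A.det_ne_zero
  simp [leviMat, hne]

/-- The Levi embedding of `GL(m, F)`. -/
def levi : GL (Fin m) F →* SL(m + 1, F) where
  toFun A := ⟨leviMat (A : Matrix (Fin m) (Fin m) F), det_leviMat A⟩
  map_one' := by
    apply Subtype.ext
    ext i j
    refine Fin.cases ?_ (fun i => ?_) i <;> refine Fin.cases ?_ (fun j => ?_) j <;>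
      simp [leviMat, Matrix.one_apply, Fin.succ_ne_zero, (Fin.succ_ne_zero _).symm]
  map_mul' A B := by
    apply Subtype.ext
    show leviMat ((A * B : GL (Fin m) F) : Matrix (Fin m) (Fin m) F) =
      leviMat (A : Matrix (Fin m) (Fin m) F) * leviMat (B : Matrix (Fin m) (Fin m) F)
    ext i j
    refine Fin.cases ?_ (fun i => ?_) i <;> refine Fin.cases ?_ (fun j => ?_) j <;>
      simp [leviMat, Matrix.mul_apply, Fin.sum_univ_succ, mul_comm]

theorem levi_val (A : GL (Fin m) F) :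
    (levi A : Matrix (Fin (m + 1)) (Fin (m + 1)) F) = leviMat (A : Matrix (Fin m) (Fin m) F) := rfl

theorem levi_rowT (A : GL (Fin m) F) (x : Fin m → F) :
    levi A * rowT x = rowT (((A : Matrix (Fin m) (Fin m) F).det)⁻¹ •
      (x ᵥ* ((A⁻¹ : GL (Fin m) F) : Matrix (Fin m) (Fin m) F))) * levi A := by
  apply Subtype.ext
  simp only [Matrix.SpecialLinearGroup.coe_mul, levi_val]
  set y := ((A : Matrix (Fin m) (Fin m) F).det)⁻¹ •
      (x ᵥ* ((A⁻¹ : GL (Fin m) F) : Matrix (Fin m) (Fin m) F)) with hy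
  have hyA : y ᵥ* (A : Matrix (Fin m) (Fin m) F) = ((A : Matrix (Fin m) (Fin m) F).det)⁻¹ • x := by
    rw [hy, smul_vecMul, vecMul_vecMul, ← Units.val_mul, inv_mul_cancel, Units.val_one, vecMul_one]
  ext i j
  refine Fin.cases ?_ (fun i => ?_) i
  · refine Fin.cases ?_ (fun j => ?_) j
    · simp [Matrix.mul_apply, Fin.sum_univ_succ, rowT_zero, rowT_succ, leviMat]
    · have h2 := congrFun hyA j
      simp only [vecMul, dotProduct, Pi.smul_apply, smul_eq_mul] at h2
      simp [Matrix.mul_apply, Fin.sum_univ_succ, rowT_zero, rowT_succ, leviMat, h2, Fin.succ_ne_zero,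
        (Fin.succ_ne_zero _).symm]
  · refine Fin.cases ?_ (fun j => ?_) j <;>
      simp [Matrix.mul_apply, Fin.sum_univ_succ, rowT_zero, rowT_succ, leviMat, Fin.succ_ne_zero]

section Class

variable {n : ℕ}

theorem tr_conj {w φ : Fin n → F} (h : φ ⬝ᵥ w = 0) {w' φ' : Fin n → F} (h' : φ' ⬝ᵥ w' = 0)
    (g : SL(n, F)) (hw : (g : Matrix (Fin n) (Fin n) F) *ᵥ w = w')
    (hφ : φ' ᵥ* (g : Matrix (Fin n) (Fin n) F) = φ) : g * tr h * g⁻¹ = tr h' := by
  rw [mul_inv_eq_iff_eq_mul]
  apply Subtype.ext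
  rw [Matrix.SpecialLinearGroup.coe_mul, Matrix.SpecialLinearGroup.coe_mul, tr_val, tr_val,
    mul_add, mul_one, add_mul, one_mul, mul_vecMulVec, vecMulVec_mul, hw, hφ]

theorem exists_adapted (hn : 3 ≤ n) {w φ : Fin n → F} (hw : w ≠ 0) (hφ : φ ≠ 0)
    (h : φ ⬝ᵥ w = 0) : ∃ g : SL(n, F),
      (g : Matrix (Fin n) (Fin n) F) *ᵥ Pi.single ⟨0, by omega⟩ 1 = w ∧
      φ ᵥ* (g : Matrix (Fin n) (Fin n) F) = Pi.single ⟨1, by omega⟩ 1 := by
  obtain ⟨m, rfl⟩ : ∃ m, n = m + 1 := ⟨n - 1, by omega⟩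
  let K : Submodule F (Fin (m + 1) → F) := LinearMap.ker (dotProductEquiv F (Fin (m + 1)) φ)
  have hmem : ∀ v, v ∈ K ↔ φ ⬝ᵥ v = 0 := fun v => by
    rw [LinearMap.mem_ker, dotProductEquiv_apply_apply]
  have hne : dotProductEquiv F (Fin (m + 1)) φ ≠ 0 := fun e => hφ (by simpa using e)
  have hKd : Module.finrank F K = m := by
    have := LinearMap.finrank_range_add_finrank_ker (dotProductEquiv F (Fin (m + 1)) φ)
    rw [LinearMap.range_eq_top.mpr (LinearMap.surjective hne), finrank_top, Module.finrank_self,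
      Module.finrank_fin_fun] at this
    show Module.finrank F (LinearMap.ker _) = m
    omega
  have hli : LinearIndepOn F id ({⟨w, (hmem w).mpr h⟩} : Set K) :=
    LinearIndepOn.singleton (fun e => hw (congrArg Subtype.val e))
  let B := Module.Basis.extend hli
  have hwB : (⟨w, (hmem w).mpr h⟩ : K) ∈ hli.extend (Set.subset_univ _) :=
    hli.subset_extend _ (Set.mem_singleton _)
  have hB : Fintype (hli.extend (Set.subset_univ ({⟨w, (hmem w).mpr h⟩} : Set K))) :=
    FiniteDimensional.fintypeBasisIndex B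
  let e := Fintype.equivFinOfCardEq (by rw [← Module.finrank_eq_card_basis B, hKd] :
    Fintype.card (hli.extend (Set.subset_univ ({⟨w, (hmem w).mpr h⟩} : Set K))) = m)
  let e' := e.trans (Equiv.swap (e ⟨_, hwB⟩) ⟨0, by omega⟩)
  let b := B.reindex e'
  have hb0 : (b ⟨0, by omega⟩ : Fin (m + 1) → F) = w := by
    have : e'.symm ⟨0, by omega⟩ = ⟨_, hwB⟩ := by
      rw [Equiv.symm_apply_eq]
      simp [e']
    rw [Module.Basis.reindex_apply, this]
    simp [B, Module.Basis.extend_apply_self]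
  obtain ⟨u, hu⟩ := LinearMap.surjective hne 1
  rw [dotProductEquiv_apply_apply] at hu
  let col : Fin (m + 1) → (Fin (m + 1) → F) :=
    (Fin.cons u fun i => (b i : Fin (m + 1) → F)) ∘ Equiv.swap 0 1
  have hcli : LinearIndependent F col := by
    refine (linearIndependent_equiv _).mpr (linearIndependent_finCons.mpr
      ⟨b.linearIndependent.map' K.subtype (Submodule.ker_subtype K), fun hmemu => ?_⟩)
    have hle : Submodule.span F (Set.range fun i => (b i : Fin (m + 1) → F)) ≤ K :=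
      Submodule.span_le.mpr (by rintro _ ⟨i, rfl⟩; exact (b i).2)
    have := (hmem u).mp (hle hmemu)
    rw [hu] at this
    exact one_ne_zero this
  let A : Matrix (Fin (m + 1)) (Fin (m + 1)) F := Matrix.of fun i j => col j i
  have hAd : A.det ≠ 0 := by
    have h1 : IsUnit A := Matrix.linearIndependent_cols_iff_isUnit.mp hcli
    exact ((Matrix.isUnit_iff_isUnit_det A).mp h1).ne_zero
  let d : Fin (m + 1) → F := fun j => if j = ⟨2, by omega⟩ then A.det⁻¹ else 1
  have hdet : (A * Matrix.diagonal d).det = 1 := by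
    rw [det_mul, det_diagonal, Finset.prod_eq_single_of_mem (⟨2, by omega⟩ : Fin (m + 1))
      (Finset.mem_univ _) (fun j _ hj => if_neg hj)]
    simp [d, hAd]
  have hcol : ∀ j i, (A * Matrix.diagonal d) i j = col j i * d j := fun j i => by
    rw [Matrix.mul_diagonal]; rfl
  have h01 : (⟨0, by omega⟩ : Fin (m + 1)) = 0 := rfl
  have h11 : (⟨1, by omega⟩ : Fin (m + 1)) = 1 := Fin.ext (by rw [Fin.val_one']; exact (Nat.mod_eq_of_lt (by omega)).symm)
  refine ⟨⟨A * Matrix.diagonal d, hdet⟩, ?_, ?_⟩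
  · funext i
    rw [mulVec_single_one, Matrix.col_apply]
    show (A * Matrix.diagonal d) i ⟨0, by omega⟩ = w i
    rw [hcol]
    simp only [col, Function.comp_apply, h01, Equiv.swap_apply_left, d]
    rw [show (1 : Fin (m + 1)) = Fin.succ ⟨0, by omega⟩ from Fin.ext (by
      rw [Fin.val_one']; exact Nat.mod_eq_of_lt (by omega)), Fin.cons_succ, hb0,
      if_neg (fun e => by simpa using congrArg Fin.val e), mul_one]
  · funext j
    simp only [vecMul, dotProduct, hcol]
    rw [Finset.sum_congr rfl fun i _ => (mul_assoc _ _ _).symm, ← Finset.sum_mul]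
    rw [show ∑ i, φ i * col j i = φ ⬝ᵥ col j from rfl]
    rcases eq_or_ne j 1 with rfl | hj
    · simp only [col, Function.comp_apply, Equiv.swap_apply_right, Fin.cons_zero, hu, h11, d,
        Pi.single_eq_same, one_mul]
      refine if_neg fun e => ?_
      have := congrArg Fin.val e
      rw [Fin.val_one', Nat.mod_eq_of_lt (by omega)] at this
      simp at this
    · have hk : ∃ k, (Equiv.swap (0 : Fin (m + 1)) 1) j = Fin.succ k := by
        refine ⟨_, (Fin.succ_pred _ fun e => hj ?_).symm⟩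
        have := congrArg (Equiv.swap (0 : Fin (m + 1)) 1) e
        simpa using this
      obtain ⟨k, hk⟩ := hk
      simp only [col, Function.comp_apply, hk, Fin.cons_succ, (hmem _).mp (b k).2, zero_mul, h11,
        Pi.single_eq_of_ne hj]

theorem isConj_tr (hn : 3 ≤ n) {w φ w' φ' : Fin n → F} (hw : w ≠ 0) (hφ : φ ≠ 0)
    (h : φ ⬝ᵥ w = 0) (hw' : w' ≠ 0) (hφ' : φ' ≠ 0) (h' : φ' ⬝ᵥ w' = 0) :
    IsConj (tr h) (tr h') := by
  obtain ⟨g, hg, hg'⟩ := exists_adapted hn hw hφ h
  obtain ⟨k, hk, hk'⟩ := exists_adapted hn hw' hφ' h'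
  have h₀ : (Pi.single ⟨1, by omega⟩ 1 : Fin n → F) ⬝ᵥ Pi.single ⟨0, by omega⟩ 1 = 0 := by
    rw [dotProduct_single_one]
    exact Pi.single_eq_of_ne (fun e => by simpa using congrArg Fin.val e) _
  exact (isConj_iff.mpr ⟨g, tr_conj h₀ h g hg hg'⟩).symm.trans (isConj_iff.mpr ⟨k, tr_conj h₀ h' k hk hk'⟩)

theorem conj_tr {w φ : Fin n → F} (h : φ ⬝ᵥ w = 0) (g : SL(n, F)) :
    ∃ h' : (φ ᵥ* ((g⁻¹ : SL(n, F)) : Matrix (Fin n) (Fin n) F)) ⬝ᵥ
      ((g : Matrix (Fin n) (Fin n) F) *ᵥ w) = 0, g * tr h * g⁻¹ = tr h' := by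
  refine ⟨?_, tr_conj h _ g rfl ?_⟩
  · rw [dotProduct_mulVec, vecMul_vecMul, ← Matrix.SpecialLinearGroup.coe_mul, inv_mul_cancel,
      Matrix.SpecialLinearGroup.coe_one, vecMul_one, h]
  · rw [vecMul_vecMul, ← Matrix.SpecialLinearGroup.coe_mul, inv_mul_cancel,
      Matrix.SpecialLinearGroup.coe_one, vecMul_one]

theorem vecMulVec_eq_iff {w φ w' φ' : Fin n → F} (hw : w ≠ 0) (hφ : φ ≠ 0)
    (h : vecMulVec w φ = vecMulVec w' φ') : ∃ c : F, c ≠ 0 ∧ w' = c • w ∧ φ' = c⁻¹ • φ := by
  obtain ⟨i, hi⟩ := Function.ne_iff.mp hw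
  obtain ⟨j, hj⟩ := Function.ne_iff.mp hφ
  have e : ∀ a b, w a * φ b = w' a * φ' b := fun a b => congrFun (congrFun h a) b
  have hij : w' i * φ' j ≠ 0 := e i j ▸ mul_ne_zero hi hj
  refine ⟨w' i / w i, div_ne_zero (left_ne_zero_of_mul hij) hi, funext fun a => ?_, funext fun b => ?_⟩
  · rw [Pi.smul_apply, smul_eq_mul, div_mul_eq_mul_div, eq_div_iff hi]
    refine mul_right_cancel₀ (right_ne_zero_of_mul hij) ?_
    linear_combination w a * e i j - w i * e a j
  · rw [Pi.smul_apply, smul_eq_mul, inv_div, div_mul_eq_mul_div, eq_div_iff (left_ne_zero_of_mul hij)]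
    linear_combination -(e i b)

/-- The number of transvections. -/
theorem card_class_mul [Fintype F] [DecidableEq F] (hn : 3 ≤ n) {w φ : Fin n → F} (hw : w ≠ 0)
    (hφ : φ ≠ 0) (h : φ ⬝ᵥ w = 0) :
    (Fintype.card F - 1) * (Subgroup.centralizer ({tr h} : Set SL(n, F))).index =
      (Fintype.card F ^ n - 1) * (Fintype.card F ^ (n - 1) - 1) := by
  classical
  set X := {x : (Fin n → F) × (Fin n → F) // x.1 ≠ 0 ∧ x.2 ≠ 0 ∧ x.2 ⬝ᵥ x.1 = 0}
  set T := {t : SL(n, F) // IsConj (tr h) t}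
  have hX : Nat.card X = (Fintype.card F ^ n - 1) * (Fintype.card F ^ (n - 1) - 1) := by
    have e : X ≃ Σ v : {v : Fin n → F // v ≠ 0}, {ψ : Fin n → F // ψ ≠ 0 ∧ ψ ⬝ᵥ v.1 = 0} :=
      { toFun := fun x => ⟨⟨x.1.1, x.2.1⟩, ⟨x.1.2, x.2.2⟩⟩
        invFun := fun s => ⟨(s.1.1, s.2.1), s.1.2, s.2.2⟩
        left_inv := fun x => rfl
        right_inv := fun s => rfl }
    have hc : ∀ v : {v : Fin n → F // v ≠ 0},
        Nat.card {ψ : Fin n → F // ψ ≠ 0 ∧ ψ ⬝ᵥ v.1 = 0} = Fintype.card F ^ (n - 1) - 1 := fun v => by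
      let K : Submodule F (Fin n → F) := LinearMap.ker (dotProductEquiv F (Fin n) v.1)
      have hne : dotProductEquiv F (Fin n) v.1 ≠ 0 := fun e => v.2 (by simpa using e)
      have hKd : Module.finrank F K = n - 1 := by
        have := LinearMap.finrank_range_add_finrank_ker (dotProductEquiv F (Fin n) v.1)
        rw [LinearMap.range_eq_top.mpr (LinearMap.surjective hne), finrank_top, Module.finrank_self,
          Module.finrank_fin_fun] at this
        show Module.finrank F (LinearMap.ker _) = n - 1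
        omega
      have hK : Nat.card K = Fintype.card F ^ (n - 1) := by
        rw [Module.natCard_eq_pow_finrank (K := F), Nat.card_eq_fintype_card, hKd]
      have e2 : {ψ : Fin n → F // ψ ≠ 0 ∧ ψ ⬝ᵥ v.1 = 0} ≃ {ψ : K // ψ ≠ 0} :=
        { toFun := fun ψ => ⟨⟨ψ.1, by
            rw [LinearMap.mem_ker, dotProductEquiv_apply_apply, dotProduct_comm]; exact ψ.2.2⟩,
            fun e => ψ.2.1 (congrArg Subtype.val e)⟩
          invFun := fun ψ => ⟨ψ.1.1, fun e => ψ.2 (Subtype.ext e), by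
            have := ψ.1.2
            rw [LinearMap.mem_ker, dotProductEquiv_apply_apply, dotProduct_comm] at this
            exact this⟩
          left_inv := fun ψ => rfl
          right_inv := fun ψ => rfl }
      rw [Nat.card_congr e2, Nat.card_eq_fintype_card, Fintype.card_subtype_compl,
        Fintype.card_subtype_eq, ← Nat.card_eq_fintype_card, hK]
    rw [Nat.card_congr e, Nat.card_sigma, Finset.sum_congr rfl fun v _ => hc v, Finset.sum_const,
      Finset.card_univ, smul_eq_mul, Fintype.card_subtype_compl, Fintype.card_subtype_eq,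
      Fintype.card_fun, Fintype.card_fin]
  have hex : ∀ t : T, ∃ x : X, tr x.2.2.2 = t.1 := fun t => by
    obtain ⟨g, hg⟩ := isConj_iff.mp t.2
    obtain ⟨h', hh⟩ := conj_tr h g
    refine ⟨⟨(_, _), fun e => hw ?_, fun e => hφ ?_, h'⟩, hh ▸ hg⟩
    · have e' : (g : Matrix (Fin n) (Fin n) F) *ᵥ w = 0 := e
      have := congrArg ((((g⁻¹ : SL(n, F)) : Matrix (Fin n) (Fin n) F)) *ᵥ ·) e'
      simp only [mulVec_mulVec, ← Matrix.SpecialLinearGroup.coe_mul, inv_mul_cancel,
        Matrix.SpecialLinearGroup.coe_one, one_mulVec, mulVec_zero] at this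
      exact this
    · have e' : φ ᵥ* ((g⁻¹ : SL(n, F)) : Matrix (Fin n) (Fin n) F) = 0 := e
      have := congrArg (· ᵥ* (g : Matrix (Fin n) (Fin n) F)) e'
      simp only [vecMul_vecMul, ← Matrix.SpecialLinearGroup.coe_mul, inv_mul_cancel,
        Matrix.SpecialLinearGroup.coe_one, vecMul_one, zero_vecMul] at this
      exact this
  choose r hr using hex
  let f : Fˣ × T → X := fun ct => ⟨((ct.1 : F) • (r ct.2).1.1, ((ct.1⁻¹ : Fˣ) : F) • (r ct.2).1.2),
    smul_ne_zero (Units.ne_zero _) (r ct.2).2.1, smul_ne_zero (Units.ne_zero _) (r ct.2).2.2.1, by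
      rw [smul_dotProduct, dotProduct_smul, (r ct.2).2.2.2, smul_zero, smul_zero]⟩
  have hval : ∀ ct : Fˣ × T, tr (f ct).2.2.2 = ct.2.1 := fun ct => by
    rw [← hr ct.2]
    apply Subtype.ext
    rw [tr_val, tr_val]
    simp only [f, smul_vecMulVec, vecMulVec_smul, smul_smul, Units.inv_mul, one_smul]
  have hf : Function.Bijective f := by
    refine ⟨fun a b hab => ?_, fun x => ?_⟩
    · have ht : a.2 = b.2 := Subtype.ext ((hval a).symm.trans
        ((Subtype.ext (by rw [tr_val, tr_val, hab])).trans (hval b)))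
      refine Prod.ext (Units.ext ?_) ht
      have h1 : (a.1 : F) • (r a.2).1.1 = (b.1 : F) • (r b.2).1.1 :=
        congrArg (fun x : X => x.1.1) hab
      rw [ht, ← sub_eq_zero, ← sub_smul, smul_eq_zero, sub_eq_zero] at h1
      exact h1.resolve_right (r b.2).2.1
    · let t : T := ⟨tr x.2.2.2, isConj_tr hn hw hφ h x.2.1 x.2.2.1 x.2.2.2⟩
      have h1 := congrArg (fun s : SL(n, F) => (s : Matrix (Fin n) (Fin n) F)) (hr t)
      simp only [t, tr_val, add_right_inj] at h1
      obtain ⟨c, hc, h2, h3⟩ := vecMulVec_eq_iff (r t).2.1 (r t).2.2.1 h1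
      refine ⟨(Units.mk0 c hc, t), Subtype.ext (Prod.ext h2.symm ?_)⟩
      simp only [f, Units.val_inv_eq_inv_val, Units.val_mk0]
      exact h3.symm
  rw [← hX, ← Nat.card_congr (Equiv.ofBijective f hf), Nat.card_prod, Nat.card_units,
    Nat.card_eq_fintype_card (α := F), CfsgLib.Blocks.index_centralizer_eq_card]

end Class

end CfsgLib.SLMinDegree
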