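import Cfsg.Agent.Lib.SLMinDegree.Group
import Cfsg.Agent.Lib.Char.Counting
import Cfsg.Agent.Lib.Char.Induced
import Cfsg.Agent.Lib.RankOne.Restrict

/-!
The characters of `SL(n, F)` with a vector fixed by the stabilizer of a vector.
-/

set_option autoImplicit false
set_option linter.unusedSectionVars false

namespace CfsgLib.SLMinDegree

open Matrix Cfsg CfsgLib.Char CfsgLib.SLBlocks
open scoped MatrixGroups ComplexConjugate

variable {F : Type*} [Field F] {n : ℕ}

theorem exists_move {W : Submodule F (Fin n → F)} {u v : Fin n → F} (hu : u ∉ W) (hv : v ∉ W)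
    (hW : W ⊔ Submodule.span F {u} ≠ ⊤) : ∃ g : SL(n, F),
      (g : Matrix (Fin n) (Fin n) F) *ᵥ u = v ∧ ∀ w ∈ W, (g : Matrix (Fin n) (Fin n) F) *ᵥ w = w := by
  have step : ∀ u v : Fin n → F, u ∉ W ⊔ Submodule.span F {v - u} → ∃ g : SL(n, F),
      (g : Matrix (Fin n) (Fin n) F) *ᵥ u = v ∧ ∀ w ∈ W, (g : Matrix (Fin n) (Fin n) F) *ᵥ w = w := by
    intro u v h
    obtain ⟨φ, hφ, hφu⟩ := exists_dot _ h
    have h1 : ((φ ⬝ᵥ u)⁻¹ • φ) ⬝ᵥ (v - u) = 0 := by
      rw [smul_dotProduct, hφ _ (Submodule.mem_sup_right (Submodule.mem_span_singleton_self _)),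
        smul_zero]
    refine ⟨tr h1, ?_, fun w hw => ?_⟩
    · rw [tr_mulVec, smul_dotProduct, smul_eq_mul, inv_mul_cancel₀ hφu, one_smul, add_sub_cancel]
    · rw [tr_mulVec, smul_dotProduct, hφ w (Submodule.mem_sup_left hw), smul_zero, zero_smul,
        add_zero]
  by_cases h : u ∈ W ⊔ Submodule.span F {v - u}
  swap
  · exact step u v h
  obtain ⟨a, ha, b, hb, hab⟩ := Submodule.mem_sup.mp h
  obtain ⟨c, rfl⟩ := Submodule.mem_span_singleton.mp hb
  have hc : c ≠ 0 := fun e => hu (by rw [e, zero_smul, add_zero] at hab; exact hab ▸ ha)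
  have hvu : v ∈ W ⊔ Submodule.span F {u} := by
    have e : v = c⁻¹ • ((1 + c) • u - a) := by
      rw [eq_inv_smul_iff₀ hc, add_smul, one_smul]
      nth_rw 1 [← hab]
      rw [smul_sub]; abel
    rw [e]
    exact Submodule.smul_mem _ _ (sub_mem (Submodule.smul_mem _ _ (Submodule.mem_sup_right
      (Submodule.mem_span_singleton_self u))) (Submodule.mem_sup_left ha))
  obtain ⟨z, -, hz⟩ := SetLike.exists_of_lt hW.lt_top
  have hu1 : u ∉ W ⊔ Submodule.span F {z - u} := fun h1 => by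
    obtain ⟨a, ha, b, hb, hab⟩ := Submodule.mem_sup.mp h1
    obtain ⟨c, rfl⟩ := Submodule.mem_span_singleton.mp hb
    have hc : c ≠ 0 := fun e => hu (by rw [e, zero_smul, add_zero] at hab; exact hab ▸ ha)
    refine hz ?_
    have e : z = c⁻¹ • ((1 + c) • u - a) := by
      rw [eq_inv_smul_iff₀ hc, add_smul, one_smul]
      nth_rw 1 [← hab]
      rw [smul_sub]; abel
    rw [e]
    exact Submodule.smul_mem _ _ (sub_mem (Submodule.smul_mem _ _ (Submodule.mem_sup_right
      (Submodule.mem_span_singleton_self u))) (Submodule.mem_sup_left ha))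
  have hz1 : z ∉ W ⊔ Submodule.span F {v - z} := fun h1 => by
    obtain ⟨a, ha, b, hb, hab⟩ := Submodule.mem_sup.mp h1
    obtain ⟨c, rfl⟩ := Submodule.mem_span_singleton.mp hb
    by_cases hc : 1 + c = 0
    · refine hv ?_
      have hc' : c = -1 := eq_neg_of_add_eq_zero_right hc
      subst hc'
      have e : v = a := by
        have h2 := hab
        rw [neg_one_smul, ← sub_eq_add_neg, sub_sub_eq_add_sub, sub_eq_iff_eq_add,
          add_comm z v, add_left_inj] at h2
        exact h2.symm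
      rwa [e]
    · refine hz ?_
      have e : z = (1 + c)⁻¹ • (a + c • v) := by
        rw [eq_inv_smul_iff₀ hc, add_smul, one_smul]
        nth_rw 1 [← hab]
        rw [smul_sub]; abel
      rw [e]
      exact Submodule.smul_mem _ _ (add_mem (Submodule.mem_sup_left ha)
        (Submodule.smul_mem _ _ hvu))
  obtain ⟨g, hg, hgW⟩ := step u z hu1
  obtain ⟨k, hk, hkW⟩ := step z v hz1
  refine ⟨k * g, ?_, fun w hw => ?_⟩
  · rw [Matrix.SpecialLinearGroup.coe_mul, ← mulVec_mulVec, hg, hk]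
  · rw [Matrix.SpecialLinearGroup.coe_mul, ← mulVec_mulVec, hgW w hw, hkW w hw]

variable {m : ℕ}

/-- The first basis vector. -/
def e0 : Fin (m + 1) → F := Pi.single 0 1

theorem e0_ne : (e0 : Fin (m + 1) → F) ≠ 0 := by simp [e0]

theorem smul_eq (g : SL(n, F)) (v : Fin n → F) :
    g • v = (g : Matrix (Fin n) (Fin n) F) *ᵥ v := rfl

/-- The stabilizer of the first basis vector. -/
def QG (m : ℕ) (F : Type*) [Field F] : Subgroup SL(m + 1, F) :=
  MulAction.stabilizer SL(m + 1, F) (e0 : Fin (m + 1) → F)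

theorem mem_QG {g : SL(m + 1, F)} :
    g ∈ QG m F ↔ (g : Matrix (Fin (m + 1)) (Fin (m + 1)) F) *ᵥ e0 = e0 := Iff.rfl

/-- The stabilizer of the first point. -/
def PG (m : ℕ) (F : Type*) [Field F] : Subgroup SL(m + 1, F) where
  carrier := {g | ∃ c : F, (g : Matrix (Fin (m + 1)) (Fin (m + 1)) F) *ᵥ e0 = c • e0}
  one_mem' := ⟨1, by simp⟩
  mul_mem' := fun {g h} ⟨a, ha⟩ ⟨b, hb⟩ => ⟨b * a, by
    rw [Matrix.SpecialLinearGroup.coe_mul, ← mulVec_mulVec, hb, mulVec_smul, ha, smul_smul]⟩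
  inv_mem' := fun {g} ⟨a, ha⟩ => ⟨a⁻¹, by
    have h1 := congrArg (((g⁻¹ : SL(m + 1, F)) : Matrix (Fin (m + 1)) (Fin (m + 1)) F) *ᵥ ·) ha
    simp only [mulVec_mulVec, ← Matrix.SpecialLinearGroup.coe_mul, inv_mul_cancel,
      Matrix.SpecialLinearGroup.coe_one, one_mulVec, mulVec_smul] at h1
    rcases eq_or_ne a 0 with rfl | ha0
    · rw [zero_smul] at h1; exact absurd h1 e0_ne
    · conv_rhs => rw [h1, smul_smul, inv_mul_cancel₀ ha0, one_smul]⟩

theorem col_zero {g : SL(m + 1, F)} (hg : g ∈ PG m F) :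
    (g : Matrix (Fin (m + 1)) (Fin (m + 1)) F) *ᵥ e0 =
      (g : Matrix (Fin (m + 1)) (Fin (m + 1)) F) 0 0 • e0 := by
  obtain ⟨c, hc⟩ := hg
  have := congrFun hc 0
  simp only [e0, mulVec_single_one, Matrix.col_apply, Pi.smul_apply, Pi.single_eq_same, smul_eq_mul,
    mul_one] at this
  rw [hc, this]

theorem corner_ne {g : SL(m + 1, F)} (hg : g ∈ PG m F) :
    (g : Matrix (Fin (m + 1)) (Fin (m + 1)) F) 0 0 ≠ 0 := fun h => by
  have h1 := congrArg (((g⁻¹ : SL(m + 1, F)) : Matrix (Fin (m + 1)) (Fin (m + 1)) F) *ᵥ ·) (col_zero hg)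
  simp only [mulVec_mulVec, ← Matrix.SpecialLinearGroup.coe_mul, inv_mul_cancel,
    Matrix.SpecialLinearGroup.coe_one, one_mulVec, h, zero_smul, mulVec_zero] at h1
  exact e0_ne h1

/-- The eigenvalue on the first point. -/
def lam : PG m F →* Fˣ where
  toFun g := Units.mk0 _ (corner_ne g.2)
  map_one' := by ext; simp
  map_mul' g h := by
    ext
    have h1 : ((g * h : PG m F) : SL(m + 1, F)).1 *ᵥ e0 =
        (h.1.1 0 0 * g.1.1 0 0) • e0 := by
      rw [Subgroup.coe_mul, Matrix.SpecialLinearGroup.coe_mul, ← mulVec_mulVec, col_zero h.2,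
        mulVec_smul, col_zero g.2, smul_smul]
    have h2 := congrFun h1 0
    simp only [e0, mulVec_single_one, Matrix.col_apply, Pi.smul_apply, Pi.single_eq_same, smul_eq_mul,
      mul_one] at h2
    simp only [Units.val_mk0, Units.val_mul]
    rw [h2, mul_comm]

theorem lam_eq_one_iff (g : PG m F) : lam g = 1 ↔ (g : SL(m + 1, F)) ∈ QG m F := by
  rw [mem_QG, col_zero g.2, Units.ext_iff]
  show g.1.1 0 0 = 1 ↔ _
  refine ⟨fun h => by rw [h, one_smul], fun h => ?_⟩
  have := congrFun h 0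
  simpa [e0] using this

theorem QG_le : QG m F ≤ PG m F := fun g hg => ⟨1, by rw [mem_QG.mp hg, one_smul]⟩

variable [Fintype F] [DecidableEq F]

instance : DecidablePred (· ∈ QG m F) := fun g =>
  decidable_of_iff ((g : Matrix (Fin (m + 1)) (Fin (m + 1)) F) *ᵥ e0 = e0) mem_QG.symm

theorem sup_span_ne_top (hm : 2 ≤ m) (W : Submodule F (Fin (m + 1) → F))
    (hW : Module.finrank F W ≤ 1) (u : Fin (m + 1) → F) : W ⊔ Submodule.span F {u} ≠ ⊤ := by
  intro h
  have h1 := Submodule.finrank_add_le_finrank_add_finrank W (Submodule.span F {u})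
  rw [h, finrank_top, Module.finrank_fin_fun] at h1
  have h2 : Module.finrank F (Submodule.span F {u}) ≤ 1 :=
    (finrank_span_le_card ({u} : Set (Fin (m + 1) → F))).trans (by simp)
  omega

theorem exists_smul_e0 (hm : 2 ≤ m) {u : Fin (m + 1) → F} (hu : u ≠ 0) :
    ∃ g : SL(m + 1, F), (g : Matrix (Fin (m + 1)) (Fin (m + 1)) F) *ᵥ e0 = u := by
  obtain ⟨g, hg, -⟩ := exists_move (W := ⊥) (u := e0) (v := u) (by simpa using e0_ne) (by simpa using hu)
    (sup_span_ne_top hm _ (by simp) _)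
  exact ⟨g, hg⟩

theorem lam_surjective (hm : 2 ≤ m) : Function.Surjective (lam : PG m F → Fˣ) := fun c => by
  obtain ⟨g, hg⟩ := exists_smul_e0 hm (u := (c : F) • e0) (smul_ne_zero c.ne_zero (e0_ne (F := F) (m := m)))
  refine ⟨⟨g, (c : F), hg⟩, Units.ext ?_⟩
  have h := congrFun hg 0
  simp only [e0, mulVec_single_one, Matrix.col_apply, Pi.smul_apply, Pi.single_eq_same, smul_eq_mul,
    mul_one] at h
  exact h

theorem card_PG (hm : 2 ≤ m) :
    Nat.card (PG m F) = (Fintype.card F - 1) * Nat.card (QG m F) := by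
  have h := (lam : PG m F →* Fˣ).ker.index_mul_card
  rw [Subgroup.index_ker, MonoidHom.range_eq_top.mpr (lam_surjective hm), Subgroup.card_top,
    Nat.card_units, Nat.card_eq_fintype_card (α := F)] at h
  have e : (lam : PG m F →* Fˣ).ker = (QG m F).subgroupOf (PG m F) := by
    ext g
    rw [MonoidHom.mem_ker, lam_eq_one_iff, Subgroup.mem_subgroupOf]
  rw [← h, e, Nat.card_congr (Subgroup.subgroupOfEquivOfLe QG_le).toEquiv]

theorem index_QG (hm : 2 ≤ m) : (QG m F).index = Fintype.card F ^ (m + 1) - 1 := by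
  rw [QG, MulAction.index_stabilizer]
  have : MulAction.orbit SL(m + 1, F) (e0 : Fin (m + 1) → F) = {u | u ≠ 0} := by
    ext u
    refine ⟨?_, fun hu => ?_⟩
    · rintro ⟨g, rfl⟩ h
      have h0 : g • (e0 : Fin (m + 1) → F) = 0 := h
      rw [smul_eq_zero_iff_eq] at h0
      exact e0_ne h0
    · obtain ⟨g, hg⟩ := exists_smul_e0 hm hu
      exact ⟨g, hg⟩
  rw [this, ← Nat.card_coe_set_eq, Nat.card_eq_fintype_card]
  rw [show Fintype.card ↥{u : Fin (m + 1) → F | u ≠ 0} = Fintype.card {u : Fin (m + 1) → F // u ≠ 0} from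
    Fintype.card_congr (Equiv.refl _), Fintype.card_subtype_compl, Fintype.card_subtype_eq,
    Fintype.card_fun, Fintype.card_fin]

theorem index_PG_mul (hm : 2 ≤ m) :
    (Fintype.card F - 1) * (PG m F).index = Fintype.card F ^ (m + 1) - 1 := by
  rw [← index_QG hm]
  refine Nat.eq_of_mul_eq_mul_right (Nat.card_pos (α := QG m F)) ?_
  rw [(QG m F).index_mul_card, mul_comm (Fintype.card F - 1), mul_assoc, ← card_PG hm,
    (PG m F).index_mul_card]

theorem card_stab_QG (hm : 2 ≤ m) {u : Fin (m + 1) → F}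
    (hu : u ∉ Submodule.span F {(e0 : Fin (m + 1) → F)}) :
    (Fintype.card F ^ (m + 1) - Fintype.card F) *
      Nat.card (MulAction.stabilizer (QG m F) u) = Nat.card (QG m F) := by
  classical
  rw [← (MulAction.stabilizer (QG m F) u).index_mul_card, MulAction.index_stabilizer]
  congr 1
  have : MulAction.orbit (QG m F) u = {v | v ∉ Submodule.span F {(e0 : Fin (m + 1) → F)}} := by
    ext v
    refine ⟨?_, fun hv => ?_⟩
    · rintro ⟨g, rfl⟩ h
      obtain ⟨c, hc⟩ := Submodule.mem_span_singleton.mp h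
      refine hu (Submodule.mem_span_singleton.mpr ⟨c, ?_⟩)
      have h1 : (g : SL(m + 1, F)) • (c • (e0 : Fin (m + 1) → F)) = (g : SL(m + 1, F)) • u := by
        rw [smul_eq, mulVec_smul, mem_QG.mp g.2]
        exact hc
      exact MulAction.injective _ h1
    · obtain ⟨g, hg, hgW⟩ := exists_move (W := Submodule.span F {(e0 : Fin (m + 1) → F)}) hu hv
        (sup_span_ne_top hm _ ((finrank_span_singleton (e0_ne (F := F) (m := m))).le) _)
      exact ⟨⟨g, hgW e0 (Submodule.mem_span_singleton_self _)⟩, hg⟩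
  rw [this, ← Nat.card_coe_set_eq, Nat.card_eq_fintype_card]
  have h1 : Fintype.card {v : Fin (m + 1) → F // v ∈ Submodule.span F {(e0 : Fin (m + 1) → F)}} =
      Fintype.card F := by
    rw [← Nat.card_eq_fintype_card]
    show Nat.card ↥(Submodule.span F {(e0 : Fin (m + 1) → F)}) = _
    rw [Module.natCard_eq_pow_finrank (K := F), finrank_span_singleton e0_ne, pow_one,
      Nat.card_eq_fintype_card]
  rw [show Fintype.card ↥{v : Fin (m + 1) → F | v ∉ Submodule.span F {(e0 : Fin (m + 1) → F)}} =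
    Fintype.card {v : Fin (m + 1) → F // v ∉ Submodule.span F {(e0 : Fin (m + 1) → F)}} from
    Fintype.card_congr (Equiv.refl _), Fintype.card_subtype_compl, Fintype.card_fun, Fintype.card_fin, h1]

/-- The character induced from a character of the point stabilizer. -/
noncomputable def piChar (μ : Fˣ →* ℂˣ) : SL(m + 1, F) → ℂ :=
  indFun (PG m F) fun g => (μ (lam g) : ℂ)

theorem isCharacter_piChar (μ : Fˣ →* ℂˣ) : IsCharacter SL(m + 1, F) (piChar μ) :=
  isCharacter_indFun _ (isCharacter_monoidHom (μ.comp lam))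

theorem piChar_one (μ : Fˣ →* ℂˣ) : (piChar μ : SL(m + 1, F) → ℂ) 1 = ((PG m F).index : ℂ) := by
  rw [piChar, indFun_one]
  simp

variable [Fintype (Fˣ →* ℂˣ)]

theorem sum_mu (c : Fˣ) : ∑ μ : Fˣ →* ℂˣ, (μ c : ℂ) =
    if c = 1 then ((Fintype.card F - 1 : ℕ) : ℂ) else 0 := by
  split_ifs with hc
  · subst hc
    simp only [map_one, Units.val_one, Finset.sum_const, Finset.card_univ, nsmul_one]
    rw [← Nat.card_eq_fintype_card, card_hom_units, Nat.card_units, Nat.card_eq_fintype_card]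
  · obtain ⟨ν, hν⟩ := CommGroup.exists_apply_ne_one_of_hasEnoughRootsOfUnity Fˣ ℂ hc
    have h := Fintype.sum_equiv (Equiv.mulLeft ν) (fun μ : Fˣ →* ℂˣ => (ν c : ℂ) * (μ c : ℂ))
      (fun μ => (μ c : ℂ)) fun μ => by simp
    rw [← Finset.mul_sum] at h
    have hν' : (ν c : ℂ) ≠ 1 := fun e => hν (Units.ext e)
    exact (mul_eq_zero.mp (show ((ν c : ℂ) - 1) * ∑ μ : Fˣ →* ℂˣ, (μ c : ℂ) = 0 by
      rw [sub_mul, one_mul, h, sub_self])).resolve_left (sub_ne_zero.mpr hν')

theorem sum_piChar (hm : 2 ≤ m) :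
    ∑ μ : Fˣ →* ℂˣ, (piChar μ : SL(m + 1, F) → ℂ) = indFun (QG m F) fun _ => 1 := by
  classical
  funext g
  rw [Finset.sum_apply]
  simp only [piChar, indFun, ← Finset.mul_sum]
  rw [Finset.sum_comm, Finset.mul_sum, Finset.mul_sum]
  refine Finset.sum_congr rfl fun x _ => ?_
  by_cases hP : x⁻¹ * g * x ∈ PG m F
  · rw [Finset.sum_congr rfl fun μ _ => extendByZero_mem _ _ hP, sum_mu, card_PG hm]
    have hq : ((Fintype.card F - 1 : ℕ) : ℂ) ≠ 0 :=
      Nat.cast_ne_zero.mpr (Nat.sub_ne_zero_of_lt Fintype.one_lt_card)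
    by_cases hQ : x⁻¹ * g * x ∈ QG m F
    · rw [if_pos ((lam_eq_one_iff ⟨_, hP⟩).mpr hQ), extendByZero_mem _ _ hQ, Nat.cast_mul, mul_inv,
        mul_one]
      field_simp
    · rw [if_neg (fun h => hQ ((lam_eq_one_iff ⟨_, hP⟩).mp h)), extendByZero_notMem _ _ hQ, mul_zero,
        mul_zero]
  · rw [Finset.sum_congr rfl fun μ _ => extendByZero_notMem _ _ hP, Finset.sum_const_zero,
      extendByZero_notMem _ _ (fun h => hP (QG_le h)), mul_zero, mul_zero]

theorem norm_perm (hm : 2 ≤ m) :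
    classInner (indFun (QG m F) fun _ => (1 : ℂ)) (indFun (QG m F) fun _ => 1) =
      (Fintype.card F : ℂ) := by
  classical
  set π := indFun (QG m F) fun _ => (1 : ℂ) with hπ
  set S := Nat.card (QG m F) with hS
  have hcl : IsClassFunction SL(m + 1, F) π := isClassFunction_indFun _ _
  have hinner : classInner π π = classInner (fun h : QG m F => π h) (fun _ => 1) :=
    frobenius_reciprocity' _ _ hcl
  rw [hinner, classInner]
  simp only [map_one, mul_one, hπ, indFun]
  rw [← Finset.mul_sum, Finset.sum_comm]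
  have hx : ∀ x : SL(m + 1, F), ∑ h : QG m F,
      extendByZero (QG m F) (fun _ => (1 : ℂ)) (x⁻¹ * h * x) =
        (Nat.card (MulAction.stabilizer (QG m F) (x • (e0 : Fin (m + 1) → F))) : ℂ) := by
    intro x
    rw [Nat.card_eq_fintype_card, Fintype.card_subtype, ← Finset.sum_boole]
    refine Finset.sum_congr rfl fun h _ => ?_
    have hiff : x⁻¹ * (h : SL(m + 1, F)) * x ∈ QG m F ↔
        h ∈ MulAction.stabilizer (QG m F) (x • (e0 : Fin (m + 1) → F)) := by
      show x⁻¹ * (h : SL(m + 1, F)) * x ∈ MulAction.stabilizer SL(m + 1, F) (e0 : Fin (m + 1) → F) ↔ _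
      rw [MulAction.mem_stabilizer_iff, MulAction.mem_stabilizer_iff, mul_smul, mul_smul,
        inv_smul_eq_iff]
      rfl
    by_cases hm' : x⁻¹ * (h : SL(m + 1, F)) * x ∈ QG m F
    · rw [extendByZero_mem _ _ hm', if_pos (hiff.mp hm')]
    · rw [extendByZero_notMem _ _ hm', if_neg fun e => hm' (hiff.mpr e)]
  rw [Finset.sum_congr rfl fun x _ => hx x]
  set D := Fintype.card F ^ (m + 1) - Fintype.card F
  have hqlt : Fintype.card F < Fintype.card F ^ (m + 1) :=
    lt_self_pow₀ Fintype.one_lt_card (by omega)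
  have hin : ∀ x : SL(m + 1, F), x ∈ PG m F →
      Nat.card (MulAction.stabilizer (QG m F) (x • (e0 : Fin (m + 1) → F))) = S := by
    intro x hx
    rw [show MulAction.stabilizer (QG m F) (x • (e0 : Fin (m + 1) → F)) = ⊤ from
      eq_top_iff.mpr fun h _ => by
        rw [MulAction.mem_stabilizer_iff]
        show (h : SL(m + 1, F)) • (x • (e0 : Fin (m + 1) → F)) = x • (e0 : Fin (m + 1) → F)
        rw [smul_eq, smul_eq, col_zero hx, mulVec_smul, mem_QG.mp h.2], Subgroup.card_top]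
  have hout : ∀ x : SL(m + 1, F), x ∉ PG m F →
      D * Nat.card (MulAction.stabilizer (QG m F) (x • (e0 : Fin (m + 1) → F))) = S := by
    intro x hx
    refine card_stab_QG hm fun hmem => hx ?_
    obtain ⟨c, hc⟩ := Submodule.mem_span_singleton.mp hmem
    exact ⟨c, hc.symm⟩
  have hG : Nat.card SL(m + 1, F) = (Fintype.card F - 1) * S + D * S := by
    rw [← Subgroup.index_mul_card (QG m F), index_QG hm, ← add_mul]
    congr 1
    have := Fintype.one_lt_card (α := F)
    omega
  have htot : D * ∑ x : SL(m + 1, F),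
      Nat.card (MulAction.stabilizer (QG m F) (x • (e0 : Fin (m + 1) → F))) =
        D * (Fintype.card F * S * S) := by
    rw [← Finset.sum_filter_add_sum_filter_not Finset.univ (fun x => x ∈ PG m F), mul_add,
      Finset.sum_congr rfl fun x hx => hin x (Finset.mem_filter.mp hx).2, Finset.mul_sum
        (s := Finset.univ.filter fun x => ¬ x ∈ PG m F),
      Finset.sum_congr (s₁ := Finset.univ.filter fun x => ¬ x ∈ PG m F) rfl fun x hx =>
        hout x (Finset.mem_filter.mp hx).2, Finset.sum_const, Finset.sum_const, smul_eq_mul,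
      smul_eq_mul]
    have h1 : (Finset.univ.filter fun x : SL(m + 1, F) => x ∈ PG m F).card =
        (Fintype.card F - 1) * S := by
      rw [← Fintype.card_subtype, ← Nat.card_eq_fintype_card]; exact card_PG hm
    have h2 : (Finset.univ.filter fun x : SL(m + 1, F) => ¬ x ∈ PG m F).card = D * S := by
      have h3 := Finset.card_filter_add_card_filter_not (s := (Finset.univ : Finset SL(m + 1, F)))
        (fun x => x ∈ PG m F)
      rw [h1, Finset.card_univ, ← Nat.card_eq_fintype_card (α := SL(m + 1, F)), hG] at h3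
      omega
    rw [h1, h2]
    obtain ⟨r, hr⟩ : ∃ r, Fintype.card F = r + 1 := ⟨Fintype.card F - 1, by
      have := Fintype.one_lt_card (α := F); omega⟩
    rw [hr, Nat.add_sub_cancel]
    ring
  have hDpos : 0 < D := Nat.sub_pos_of_lt hqlt
  rw [← Nat.cast_sum, Nat.eq_of_mul_eq_mul_left hDpos htot]
  have : (S : ℂ) ≠ 0 := Nat.cast_ne_zero.mpr Nat.card_pos.ne'
  push_cast
  rw [← hS]
  field_simp

/-- The irreducible constituents. -/
theorem piChar_spec (hm : 2 ≤ m) :
    (∀ μ : Fˣ →* ℂˣ, μ ≠ 1 → IsIrrCharacter SL(m + 1, F) (piChar μ)) ∧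
      IsIrrCharacter SL(m + 1, F) (piChar 1 - fun _ => 1) := by
  classical
  set N := (PG m F).index
  have hN : 1 < N := by
    have h := index_PG_mul (F := F) (m := m) hm
    rw [← show N = (PG m F).index from rfl] at h
    have h2 : Fintype.card F - 1 < Fintype.card F ^ (m + 1) - 1 := by
      have h3 : Fintype.card F < Fintype.card F ^ (m + 1) := lt_self_pow₀ Fintype.one_lt_card (by omega)
      have := Fintype.one_lt_card (α := F)
      omega
    by_contra hle
    have : (Fintype.card F - 1) * N ≤ (Fintype.card F - 1) * 1 :=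
      Nat.mul_le_mul_left _ (not_lt.mp hle)
    omega
  choose a ha using fun μ ν : Fˣ →* ℂˣ => exists_nat_classInner (isCharacter_piChar (m := m) μ)
    (isCharacter_piChar (m := m) ν)
  have hpos : ∀ μ, 1 ≤ a μ μ := fun μ => by
    by_contra h
    have h0 := ha μ μ
    rw [Nat.eq_zero_of_not_pos h, Nat.cast_zero] at h0
    have h1 := congrFun (eq_zero_of_classInner_self h0) 1
    rw [piChar_one] at h1
    exact (Nat.cast_ne_zero.mpr (show (PG m F).index ≠ 0 from Nat.one_le_iff_ne_zero.mp hN.le)) h1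
  have htriv : classInner (piChar 1 : SL(m + 1, F) → ℂ) (fun _ => 1) = 1 := by
    rw [piChar, frobenius_reciprocity _ _ (isClassFunction_of_isCharacter isCharacter_one)]
    simp [classInner]
  have htwo : 2 ≤ a 1 1 := by
    by_contra h
    have h1 : a 1 1 = 1 := by have := hpos 1; omega
    have h0 := ha 1 1
    rw [h1, Nat.cast_one] at h0
    have e := RankOne.eq_of_inner_ne_zero (isIrr_of_norm_one (isCharacter_piChar 1) h0)
      isIrrCharacter_one (by rw [htriv]; exact one_ne_zero)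
    have h2 := congrFun e 1
    rw [piChar_one] at h2
    have : N = 1 := by exact_mod_cast h2
    omega
  have hsum : ∑ μ : Fˣ →* ℂˣ, ∑ ν : Fˣ →* ℂˣ, a μ ν = Fintype.card F := by
    apply Nat.cast_injective (R := ℂ)
    rw [← norm_perm hm, ← sum_piChar hm, classInner_sum_left]
    push_cast
    refine Finset.sum_congr rfl fun μ _ => ?_
    rw [classInner_sum_right]
    exact Finset.sum_congr rfl fun ν _ => (ha μ ν).symm
  have hdiag : ∑ μ : Fˣ →* ℂˣ, a μ μ ≤ Fintype.card F :=
    hsum ▸ Finset.sum_le_sum fun μ _ => Finset.single_le_sum (fun ν _ => Nat.zero_le (a μ ν))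
      (Finset.mem_univ μ)
  have hcard : Fintype.card (Fˣ →* ℂˣ) = Fintype.card F - 1 := by
    rw [← Nat.card_eq_fintype_card, card_hom_units, Nat.card_units, Nat.card_eq_fintype_card]
  have hsplit := Finset.add_sum_erase Finset.univ (fun μ => a μ μ) (Finset.mem_univ (1 : Fˣ →* ℂˣ))
  have hrest : (Finset.univ.erase (1 : Fˣ →* ℂˣ)).card • 1 ≤
      ∑ μ ∈ Finset.univ.erase (1 : Fˣ →* ℂˣ), a μ μ :=
    Finset.card_nsmul_le_sum _ _ _ fun μ _ => hpos μ
  rw [Finset.card_erase_of_mem (Finset.mem_univ _), Finset.card_univ, hcard, smul_eq_mul,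
    mul_one] at hrest
  have hq := Fintype.one_lt_card (α := F)
  have heq1 : a 1 1 = 2 := by omega
  have heq : ∀ μ : Fˣ →* ℂˣ, μ ≠ 1 → a μ μ = 1 := by
    intro μ hμ
    by_contra hne
    have : 2 ≤ a μ μ := by have := hpos μ; omega
    have h1 : (Finset.univ.erase (1 : Fˣ →* ℂˣ)).card <
        ∑ ν ∈ Finset.univ.erase (1 : Fˣ →* ℂˣ), a ν ν := by
      rw [Finset.card_eq_sum_ones]
      exact Finset.sum_lt_sum (fun ν _ => hpos ν)
        ⟨μ, Finset.mem_erase.mpr ⟨hμ, Finset.mem_univ _⟩, by omega⟩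
    rw [Finset.card_erase_of_mem (Finset.mem_univ _), Finset.card_univ, hcard] at h1
    omega
  refine ⟨fun μ hμ => isIrr_of_norm_one (isCharacter_piChar μ) (by rw [ha, heq μ hμ, Nat.cast_one]),
    RankOne.isIrr_sub_of_norm_one (isCharacter_piChar 1) isCharacter_one ?_
      (n := (PG m F).index - 1) ?_⟩
  · rw [classInner_sub_left, classInner_sub_right, classInner_sub_right, ha, heq1,
      ← classInner_conj_symm (piChar 1 : SL(m + 1, F) → ℂ), htriv, classInner_irr_self isIrrCharacter_one]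
    norm_num
  · rw [piChar_one, Nat.cast_sub hN.le, Nat.cast_one]

omit [Fintype (Fˣ →* ℂˣ)] in
theorem finite_hom : Finite (Fˣ →* ℂˣ) :=
  Nat.finite_of_card_ne_zero (by rw [card_hom_units]; exact Nat.card_pos.ne')

/-- An irreducible character with a fixed vector of the stabilizer of a vector. -/
theorem degree_of_fixed (hm : 2 ≤ m) {χ : SL(m + 1, F) → ℂ} (hχ : IsIrrCharacter SL(m + 1, F) χ)
    (hfix : ∑ g : QG m F, χ g ≠ 0) :
    χ 1 = 1 ∨ χ 1 = (((PG m F).index - 1 : ℕ) : ℂ) ∨ χ 1 = ((PG m F).index : ℂ) := by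
  classical
  obtain ⟨hirr, hirr1⟩ := piChar_spec (F := F) hm
  have hcl := isClassFunction_of_isCharacter (isCharacter_of_isIrr hχ)
  have h0 : classInner χ (indFun (QG m F) fun _ => 1) ≠ 0 := by
    rw [frobenius_reciprocity' _ _ hcl, classInner]
    simp only [map_one, mul_one]
    exact mul_ne_zero (inv_ne_zero (Nat.cast_ne_zero.mpr Nat.card_pos.ne')) hfix
  rw [← sum_piChar hm, classInner_sum_right] at h0
  obtain ⟨μ, -, hμ⟩ := Finset.exists_ne_zero_of_sum_ne_zero h0
  by_cases h1 : μ = 1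
  · subst h1
    by_cases ht : χ = fun _ => 1
    · exact Or.inl (by rw [ht])
    · refine Or.inr (Or.inl ?_)
      have e : piChar (1 : Fˣ →* ℂˣ) =
          (piChar (1 : Fˣ →* ℂˣ) - fun _ => (1 : ℂ) : SL(m + 1, F) → ℂ) + fun _ => 1 := by simp
      rw [e, classInner_add_right, classInner_irr_ne hχ isIrrCharacter_one ht, add_zero] at hμ
      have := RankOne.eq_of_inner_ne_zero hχ hirr1 hμ
      rw [this, Pi.sub_apply, piChar_one, Nat.cast_sub (Nat.one_le_iff_ne_zero.mpr
        Subgroup.index_ne_zero_of_finite), Nat.cast_one]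
  · exact Or.inr (Or.inr (by rw [RankOne.eq_of_inner_ne_zero hχ (hirr μ h1) hμ, piChar_one]))

end CfsgLib.SLMinDegree
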