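import Cfsg.Agent.Lib.SLMinDegree.Split

/-!
The value of the fixed point character on a transvection, when the multiplicity is one.
-/

set_option autoImplicit false
set_option linter.unusedSectionVars false

namespace CfsgLib.SLMinDegree

open Matrix Cfsg CfsgLib.Char CfsgLib.SLBlocks
open scoped MatrixGroups

variable {F : Type*} [Field F] [Fintype F] [DecidableEq F] {m : ℕ}

theorem exists_pow_ne_one {d : ℕ} (hd : d ≠ 0) (h : d + 1 < Fintype.card F) :
    ∃ b : F, b ≠ 0 ∧ b ^ d ≠ 1 := by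
  classical
  by_contra! hc
  have hsub : (Finset.univ.erase (0 : F)) ⊆ (Polynomial.nthRoots d (1 : F)).toFinset := fun b hb => by
    rw [Multiset.mem_toFinset, Polynomial.mem_nthRoots (Nat.pos_of_ne_zero hd)]
    exact hc b (Finset.ne_of_mem_erase hb)
  have := (Finset.card_le_card hsub).trans
    ((Multiset.toFinset_card_le _).trans (Polynomial.card_nthRoots d (1 : F)))
  rw [Finset.card_erase_of_mem (Finset.mem_univ _), Finset.card_univ] at this
  omega

theorem exists_scaling (hm : 2 ≤ m) {y : Fin m → F} (hy1 : y (i1 hm) = 0) (B : GL (Fin m) F)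
    (hB : B ∈ Lstab y) {r : F} (hr : r ≠ 1)
    (h : ∀ s, B * Matrix.SpecialLinearGroup.toGL (tv hm s) =
      Matrix.SpecialLinearGroup.toGL (tv hm (r * s)) * B) :
    ∃ B C : GL (Fin m) F, B ∈ Lstab y ∧ C ∈ Lstab y ∧
      Matrix.SpecialLinearGroup.toGL (tv hm (1 : F)) = B * C * B⁻¹ * C⁻¹ := by
  refine ⟨B, Matrix.SpecialLinearGroup.toGL (tv hm (r - 1)⁻¹), hB, tv_mem hm _ hy1, ?_⟩
  rw [h, mul_inv_cancel_right, ← map_inv, ← map_mul]
  congr 1
  rw [eq_mul_inv_iff_mul_eq, ← tv_add]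
  congr 1
  have : r - 1 ≠ 0 := sub_ne_zero.mpr hr
  field_simp
  ring

theorem exists_commutator_two {q : ℕ} (hq : Fintype.card F = q) (hex : q ≠ 2 ∧ q ≠ 4)
    {y : Fin 2 → F} (hy1 : y 1 = 0) :
    ∃ B C : GL (Fin 2) F, B ∈ Lstab y ∧ C ∈ Lstab y ∧
      Matrix.SpecialLinearGroup.toGL (tv (le_refl 2) (1 : F)) = B * C * B⁻¹ * C⁻¹ := by
  obtain ⟨b, hb, hb3⟩ : ∃ b : F, b ≠ 0 ∧ b ^ 3 ≠ 1 := by
    rcases lt_or_ge 4 q with h | h
    · exact exists_pow_ne_one (by decide) (by omega)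
    · have h3 : q = 3 := by have := Fintype.one_lt_card (α := F); omega
      obtain ⟨b, hb, hb1⟩ := exists_pow_ne_one (F := F) (d := 1) (by decide) (by omega)
      refine ⟨b, hb, fun e => hb1 ?_⟩
      have h2 := FiniteField.pow_card_sub_one_eq_one b hb
      rw [hq, h3] at h2
      calc b ^ 1 = b ^ 1 * b ^ (3 - 1) := by rw [h2, mul_one]
        _ = b ^ 3 := by ring
        _ = 1 := e
  have hd : (Matrix.diagonal ![b, (b ^ 2)⁻¹]).det ≠ 0 := by
    rw [det_diagonal, Fin.prod_univ_two]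
    simp [hb]
  have hdet : (Matrix.diagonal ![b, (b ^ 2)⁻¹]).det = b⁻¹ := by
    rw [det_diagonal, Fin.prod_univ_two]
    simp
    field_simp
  let B : GL (Fin 2) F := Matrix.GeneralLinearGroup.mkOfDetNeZero _ hd
  refine exists_scaling (le_refl 2) hy1 B ?_ hb3 fun s => ?_
  · rw [mem_Lstab]
    show (Matrix.diagonal ![b, (b ^ 2)⁻¹]).det • (Matrix.diagonal ![b, (b ^ 2)⁻¹] *ᵥ y) = y
    rw [hdet]
    funext i
    fin_cases i <;> simp [mulVec_diagonal, hy1, hb]
  · apply Units.ext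
    show Matrix.diagonal ![b, (b ^ 2)⁻¹] * (tv (le_refl 2) s : Matrix (Fin 2) (Fin 2) F) =
      (tv (le_refl 2) (b ^ 3 * s) : Matrix (Fin 2) (Fin 2) F) * Matrix.diagonal ![b, (b ^ 2)⁻¹]
    ext i j
    fin_cases i <;> fin_cases j <;>
      simp [tv_val, i0, i1, Matrix.mul_apply, Fin.sum_univ_two, vecMulVec_apply]
    field_simp

theorem exists_commutator_three {q : ℕ} (hq : Fintype.card F = q) (hex : 3 < q)
    {y : Fin 3 → F} (hy1 : y 1 = 0) (hy2 : y 2 ≠ 0) :
    ∃ B C : GL (Fin 3) F, B ∈ Lstab y ∧ C ∈ Lstab y ∧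
      Matrix.SpecialLinearGroup.toGL (tv (show 2 ≤ 3 by decide) (1 : F)) = B * C * B⁻¹ * C⁻¹ := by
  obtain ⟨b, hb, hb2⟩ : ∃ b : F, b ≠ 0 ∧ b ^ 2 ≠ 1 := exists_pow_ne_one (by decide) (by omega)
  set c := y 0 / y 2 * (1 - b) with hc
  have hdet : (!![b, 0, c; 0, b⁻¹, 0; 0, 0, 1] : Matrix (Fin 3) (Fin 3) F).det = 1 := by
    rw [det_fin_three]
    simp [hb]
  let B : GL (Fin 3) F := Matrix.GeneralLinearGroup.mkOfDetNeZero _ (hdet ▸ one_ne_zero)
  refine exists_scaling (show 2 ≤ 3 by decide) hy1 B ?_ hb2 fun s => ?_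
  · rw [mem_Lstab]
    show (!![b, 0, c; 0, b⁻¹, 0; 0, 0, 1] : Matrix (Fin 3) (Fin 3) F).det •
      (!![b, 0, c; 0, b⁻¹, 0; 0, 0, 1] *ᵥ y) = y
    rw [hdet, one_smul]
    funext i
    fin_cases i <;> simp [mulVec, dotProduct, Fin.sum_univ_three, hy1, hc]
    field_simp
    ring
  · apply Units.ext
    show (!![b, 0, c; 0, b⁻¹, 0; 0, 0, 1] : Matrix (Fin 3) (Fin 3) F) *
        (tv (show 2 ≤ 3 by decide) s : Matrix (Fin 3) (Fin 3) F) =
      (tv (show 2 ≤ 3 by decide) (b ^ 2 * s) : Matrix (Fin 3) (Fin 3) F) *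
        !![b, 0, c; 0, b⁻¹, 0; 0, 0, 1]
    ext i j
    fin_cases i <;> fin_cases j <;>
      simp [tv_val, i0, i1, Matrix.mul_apply, Fin.sum_univ_three, vecMulVec_apply]
    field_simp

theorem exists_commutator_many (hm : 2 ≤ m) {y : Fin m → F} (hy1 : y (i1 hm) = 0)
    (φ w : Fin m → F) (hφy : φ ⬝ᵥ y = 0) (hφ0 : φ (i0 hm) = 0) (hφw : φ ⬝ᵥ w = 1)
    (hw1 : w (i1 hm) = 0) :
    ∃ B C : GL (Fin m) F, B ∈ Lstab y ∧ C ∈ Lstab y ∧
      Matrix.SpecialLinearGroup.toGL (tv hm (1 : F)) = B * C * B⁻¹ * C⁻¹ := by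
  have hB : φ ⬝ᵥ (Pi.single (i0 hm) 1 : Fin m → F) = 0 := by rw [dotProduct_single_one, hφ0]
  have hC : (Pi.single (i1 hm) 1 : Fin m → F) ⬝ᵥ w = 0 := by rw [single_one_dotProduct, hw1]
  refine ⟨Matrix.SpecialLinearGroup.toGL (tr hB), Matrix.SpecialLinearGroup.toGL (tr hC), ?_, ?_, ?_⟩
  · rw [mem_Lstab]
    show (tr hB).1.det • ((tr hB).1 *ᵥ y) = y
    rw [(tr hB).2, one_smul, tr_mulVec, hφy, zero_smul, add_zero]
  · rw [mem_Lstab]
    show (tr hC).1.det • ((tr hC).1 *ᵥ y) = y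
    rw [(tr hC).2, one_smul, tr_mulVec, single_one_dotProduct, hy1, zero_smul, add_zero]
  · rw [← map_mul, ← map_inv, ← map_mul, ← map_inv, ← map_mul]
    congr 1
    rw [eq_mul_inv_iff_mul_eq, eq_mul_inv_iff_mul_eq]
    apply Subtype.ext
    simp only [Matrix.SpecialLinearGroup.coe_mul, tr_val, tv_val, mul_add, add_mul, one_mul, mul_one,
      vecMulVec_mul_vecMulVec, hB, hC, hφw, dot_tv hm (1 : F), one_smul, zero_smul, vecMulVec_zero,
      add_zero]
    abel

theorem exists_commutator (hm : 2 ≤ m)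
    (hex : ¬ (m = 2 ∧ (Fintype.card F = 2 ∨ Fintype.card F = 4)) ∧ ¬ (m = 3 ∧ Fintype.card F ≤ 3))
    {y : Fin m → F} (hy1 : y (i1 hm) = 0) :
    ∃ B C : GL (Fin m) F, B ∈ Lstab y ∧ C ∈ Lstab y ∧
      Matrix.SpecialLinearGroup.toGL (tv hm (1 : F)) = B * C * B⁻¹ * C⁻¹ := by
  rcases Nat.lt_or_ge m 3 with h3 | h3
  · obtain rfl : m = 2 := by omega
    exact exists_commutator_two rfl (by simpa using hex.1) hy1
  let i2 : Fin m := ⟨2, by omega⟩
  have h20 : i2 ≠ i0 hm := by simp [i2, i0]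
  have h21 : i2 ≠ i1 hm := by simp [i2, i1]
  by_cases hy2 : y i2 = 0
  · exact exists_commutator_many hm hy1 (Pi.single i2 1) (Pi.single i2 1)
      (by rw [single_one_dotProduct, hy2]) (Pi.single_eq_of_ne h20.symm _)
      (by rw [single_one_dotProduct, Pi.single_eq_same]) (Pi.single_eq_of_ne h21.symm _)
  rcases Nat.lt_or_ge m 4 with h4 | h4
  · obtain rfl : m = 3 := by omega
    exact exists_commutator_three rfl (by simpa using hex.2) hy1 hy2
  let i3 : Fin m := ⟨3, by omega⟩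
  have h30 : i3 ≠ i0 hm := by simp [i3, i0]
  have h31 : i3 ≠ i1 hm := by simp [i3, i1]
  have h32 : i3 ≠ i2 := by simp [i2, i3]
  refine exists_commutator_many hm hy1 (Pi.single i2 (y i3 / y i2) - Pi.single i3 1)
    (Pi.single i3 (-1)) ?_ ?_ ?_ (Pi.single_eq_of_ne h31.symm _)
  · rw [sub_dotProduct, single_dotProduct, single_one_dotProduct, div_mul_cancel₀ _ hy2, sub_self]
  · simp [h20.symm, h30.symm]
  · rw [sub_dotProduct, single_dotProduct, single_one_dotProduct, Pi.single_eq_of_ne h32.symm,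
      Pi.single_eq_same]
    simp

theorem coef_tv_eq_one (hm : 2 ≤ m)
    (hex : ¬ (m = 2 ∧ (Fintype.card F = 2 ∨ Fintype.card F = 4)) ∧ ¬ (m = 3 ∧ Fintype.card F ≤ 3))
    {χ : SL(m + 1, F) → ℂ} (hχ : IsCharacter SL(m + 1, F) χ) {y : Fin m → F}
    (hy1 : y (i1 hm) = 0) (h1 : coef χ y 1 = 1) :
    coef χ y (Matrix.SpecialLinearGroup.toGL (tv hm (1 : F))) = 1 := by
  obtain ⟨B, C, hB, hC, e⟩ := exists_commutator hm hex hy1
  have hl := isCharacter_coef hχ y
  have hl1 : (fun A : Lstab y => coef χ y A) 1 = 1 := h1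
  set L := linearHom hl hl1 with hL
  have hcomm : L ((⟨B, hB⟩ : Lstab y) * ⟨C, hC⟩ * (⟨B, hB⟩ : Lstab y)⁻¹ * (⟨C, hC⟩ : Lstab y)⁻¹) = 1 := by
    simp only [map_mul, map_inv]
    rw [mul_right_comm (L ⟨B, hB⟩), mul_inv_cancel, one_mul, mul_inv_cancel]
  have h := congrArg Units.val hcomm
  rw [hL, linearHom_apply, Units.val_one] at h
  rw [e]
  exact h

theorem card_coord_zero (i : Fin m) :
    Fintype.card {y : Fin m → F // y i = 0} = Fintype.card F ^ (m - 1) := by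
  classical
  have e : {y : Fin m → F // y i = 0} ≃ ({j : Fin m // j ≠ i} → F) :=
    { toFun := fun y j => y.1 j.1
      invFun := fun z => ⟨fun j => if h : j = i then 0 else z ⟨j, h⟩, dif_pos rfl⟩
      left_inv := fun y => by
        apply Subtype.ext
        funext j
        by_cases h : j = i
        · subst h; simp [y.2]
        · simp [h]
      right_inv := fun z => by funext j; simp [j.2] }
  rw [Fintype.card_congr e, Fintype.card_fun, Fintype.card_subtype_compl, Fintype.card_subtype_eq,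
    Fintype.card_fin]

/-- The fixed point character on a transvection. -/
theorem sig_tv (hm : 2 ≤ m)
    (hex : ¬ (m = 2 ∧ (Fintype.card F = 2 ∨ Fintype.card F = 4)) ∧ ¬ (m = 3 ∧ Fintype.card F ≤ 3))
    {χ : SL(m + 1, F) → ℂ} (hχ : IsCharacter SL(m + 1, F) χ) {b : ℂ} (hb : χ (t1 hm) = b - 1)
    (ha : ∀ y, y ≠ 0 → coef χ y 1 = 1) :
    sig χ (Matrix.SpecialLinearGroup.toGL (tv hm (1 : F))) = b - (Fintype.card F : ℂ) ^ (m - 1) := by
  classical
  have hcl := isClassFunction_of_isCharacter hχ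
  have hs := sum_coef χ (Matrix.SpecialLinearGroup.toGL (tv hm (1 : F)))
  rw [Char.eq_of_isConj hcl (levi_tv hm (1 : F) one_ne_zero), hb,
    ← Finset.add_sum_erase _ _ (Finset.mem_univ (0 : Fin m → F))] at hs
  have hrest : ∑ y ∈ Finset.univ.erase (0 : Fin m → F),
      coef χ y (Matrix.SpecialLinearGroup.toGL (tv hm (1 : F))) =
      (Fintype.card F : ℂ) ^ (m - 1) - 1 := by
    have hval : ∀ y ∈ Finset.univ.erase (0 : Fin m → F),
        coef χ y (Matrix.SpecialLinearGroup.toGL (tv hm (1 : F))) =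
          if y (i1 hm) = 0 then (1 : ℂ) else 0 := fun y hy => by
      split_ifs with h
      · exact coef_tv_eq_one hm hex hχ h (ha y (Finset.ne_of_mem_erase hy))
      · exact coef_tv_eq_zero hm hcl h
    rw [Finset.sum_congr rfl hval, Finset.sum_erase_eq_sub (Finset.mem_univ _), Finset.sum_boole,
      ← Fintype.card_subtype, card_coord_zero]
    simp
  rw [hrest] at hs
  rw [sig]
  linear_combination hs

end CfsgLib.SLMinDegree
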